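import Mathlib

set_option autoImplicit false

namespace Cfsg.Agent.Lib.Helper75

open Subgroup

variable {G : Type*} [Group G] [Finite G]

theorem index_eq_relIndex_mul_index_sup (H A : Subgroup G) [A.Normal] :
    H.index = H.relIndex A * (H ⊔ A).index := by
  have h1 : (H ⊓ A).relIndex H * H.index = (H ⊓ A).index := Subgroup.relIndex_mul_index inf_le_left
  have h2 : (H ⊓ A).relIndex A * A.index = (H ⊓ A).index := Subgroup.relIndex_mul_index inf_le_right
  have h3 : A.relIndex (H ⊔ A) * (H ⊔ A).index = A.index := Subgroup.relIndex_mul_index le_sup_right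
  rw [Subgroup.inf_relIndex_left] at h1
  rw [Subgroup.inf_relIndex_right] at h2
  rw [Subgroup.relIndex_sup_right] at h3
  have h0 : A.relIndex H ≠ 0 := (A.subgroupOf H).index_ne_zero_of_finite
  apply Nat.eq_of_mul_eq_mul_left (Nat.pos_of_ne_zero h0)
  rw [h1, ← h2, ← h3]
  ring

theorem relIndex_sup_eq (H A : Subgroup G) [A.Normal] : H.relIndex (H ⊔ A) = H.relIndex A := by
  have h1 := index_eq_relIndex_mul_index_sup H A
  have h2 : H.relIndex (H ⊔ A) * (H ⊔ A).index = H.index := Subgroup.relIndex_mul_index le_sup_left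
  have h0 : (H ⊔ A).index ≠ 0 := (H ⊔ A).index_ne_zero_of_finite
  apply Nat.eq_of_mul_eq_mul_right (Nat.pos_of_ne_zero h0)
  rw [h2, h1]

theorem relIndex_dvd_index_of_normal_right' (H A : Subgroup G) [A.Normal] : H.relIndex A ∣ H.index :=
  ⟨_, index_eq_relIndex_mul_index_sup H A⟩

variable {p : ℕ} [Fact p.Prime]

theorem card_sylow_eq_index (P : Sylow p G) :
    Nat.card (Sylow p G) = (normalizer ((P : Subgroup G) : Set G)).index :=
  P.card_eq_index_normalizer

/-- the number of Sylow subgroups of an overgroup of a Sylow subgroup -/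
theorem card_sylow_of_le (P : Sylow p G) (K : Subgroup G) (h : (P : Subgroup G) ≤ K) :
    Nat.card (Sylow p K) = (normalizer ((P : Subgroup G) : Set G)).relIndex K := by
  rw [card_sylow_eq_index (P.subtype h), Sylow.coe_subtype, ← subgroupOf_normalizer_eq h]
  rfl

theorem normalizer_sup_normal (P : Sylow p G) (N : Subgroup G) [N.Normal] :
    normalizer (((P : Subgroup G) ⊔ N : Subgroup G) : Set G)
      = normalizer ((P : Subgroup G) : Set G) ⊔ N := by
  apply le_antisymm
  · intro g hg
    have hP : (P : Subgroup G) ≤ (P : Subgroup G) ⊔ N := le_sup_left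
    have hgP : ((g • P : Sylow p G) : Subgroup G) ≤ (P : Subgroup G) ⊔ N := by
      intro x hx
      rw [Sylow.coe_subgroup_smul, Subgroup.mem_pointwise_smul_iff_inv_smul_mem, MulAut.smul_def,
        MulAut.conj_inv_apply] at hx
      have h1 : g⁻¹ * x * g ∈ (P : Subgroup G) ⊔ N := hP hx
      have h2 := (hg _).1 h1
      simpa [mul_assoc] using h2
    obtain ⟨m, hm⟩ := MulAction.exists_smul_eq ((P : Subgroup G) ⊔ N : Subgroup G) (P.subtype hP)
      ((g • P).subtype hgP)
    rw [Sylow.smul_subtype] at hm
    have hm' : (m : G) • P = g • P := Sylow.subtype_injective hm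
    have h3 : ((m : G)⁻¹ * g) • P = P := by
      rw [mul_smul, ← hm', inv_smul_smul]
    have h4 : (m : G)⁻¹ * g ∈ normalizer ((P : Subgroup G) : Set G) :=
      Sylow.smul_eq_iff_mem_normalizer.1 h3
    have h5 : (m : G) ∈ normalizer ((P : Subgroup G) : Set G) ⊔ N :=
      (sup_le_sup_right le_normalizer N) m.2
    have h6 := mul_mem h5 (mem_sup_left (T := N) h4)
    simpa using h6
  · apply sup_le
    · intro g hg
      rw [mem_normalizer_iff_map_conj_eq] at hg ⊢
      rw [Subgroup.map_sup, hg, Normal.map_conj_eq]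
    · exact le_trans le_sup_right le_normalizer

theorem card_sylow_quotient (P : Sylow p G) (N : Subgroup G) [N.Normal] :
    Nat.card (Sylow p (G ⧸ N)) = (normalizer ((P : Subgroup G) : Set G) ⊔ N).index := by
  rw [card_sylow_eq_index (P.mapSurjective (QuotientGroup.mk'_surjective N)),
    Sylow.coe_mapSurjective, ← index_comap_of_surjective _ (QuotientGroup.mk'_surjective N),
    comap_normalizer_eq_of_surjective _ (QuotientGroup.mk'_surjective N), comap_map_eq,
    QuotientGroup.ker_mk', normalizer_sup_normal]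

omit [Fact p.Prime] in
theorem relIndex_normalizer_sup (P : Sylow p G) (N : Subgroup G) [N.Normal] :
    (normalizer ((P : Subgroup G) : Set G)).relIndex ((P : Subgroup G) ⊔ N)
      = (normalizer ((P : Subgroup G) : Set G)).relIndex N := by
  set NP := normalizer ((P : Subgroup G) : Set G) with hNP
  set H := NP ⊓ ((P : Subgroup G) ⊔ N) with hH
  have h1 : H ⊔ N = (P : Subgroup G) ⊔ N := by
    apply le_antisymm
    · exact sup_le inf_le_right le_sup_right
    · exact sup_le_sup_right (le_inf le_normalizer le_sup_left) N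
  have h2 : H ⊓ N = NP ⊓ N := by
    rw [hH, inf_assoc, inf_eq_right.2 (le_sup_right : N ≤ (P : Subgroup G) ⊔ N)]
  rw [← inf_relIndex_right NP, ← hH, ← h1, relIndex_sup_eq, ← inf_relIndex_right H, h2,
    inf_relIndex_right]

/-- M. Hall's first reduction. -/
theorem card_sylow_eq_quotient_mul (P : Sylow p G) (N : Subgroup G) [N.Normal] :
    Nat.card (Sylow p G)
      = Nat.card (Sylow p (G ⧸ N)) * Nat.card (Sylow p ((P : Subgroup G) ⊔ N : Subgroup G)) := by
  rw [card_sylow_quotient P N, card_sylow_of_le P _ le_sup_left, relIndex_normalizer_sup,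
    card_sylow_eq_index P, index_eq_relIndex_mul_index_sup _ N, mul_comm]

omit [Finite G] [Fact p.Prime] in
theorem isPGroup_inf_subgroupOf (P : Sylow p G) (N : Subgroup G) :
    IsPGroup p (((P : Subgroup G) ⊓ N).subgroupOf N) := by
  have h : IsPGroup p ((P : Subgroup G) ⊓ N : Subgroup G) := P.2.to_le inf_le_left
  exact h.comap_of_injective N.subtype Subtype.coe_injective

/-- the intersection of a Sylow subgroup with a normal subgroup, as a Sylow subgroup -/
noncomputable def sylowInf (P : Sylow p G) (N : Subgroup G) [N.Normal] : Sylow p N :=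
  (isPGroup_inf_subgroupOf P N).toSylow (by
    intro h
    have h1 : (((P : Subgroup G) ⊓ N).subgroupOf N).index = (P : Subgroup G).relIndex N := by
      rw [← inf_relIndex_right]; rfl
    rw [h1] at h
    exact P.not_dvd_index (h.trans (relIndex_dvd_index_of_normal_right' _ N)))

theorem coe_sylowInf (P : Sylow p G) (N : Subgroup G) [N.Normal] :
    (sylowInf P N : Subgroup N) = ((P : Subgroup G) ⊓ N).subgroupOf N := rfl

theorem card_sylow_normal (P : Sylow p G) (N : Subgroup G) [N.Normal] :
    Nat.card (Sylow p N) = (normalizer (((P : Subgroup G) ⊓ N : Subgroup G) : Set G)).relIndex N := by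
  rw [card_sylow_eq_index (sylowInf P N), coe_sylowInf, ← subgroupOf_normalizer_eq inf_le_right]
  rfl

omit [Finite G] in
theorem normalizer_le_normalizer_inf (P N : Subgroup G) [N.Normal] :
    normalizer (P : Set G) ≤ normalizer ((P ⊓ N : Subgroup G) : Set G) := by
  intro g hg
  rw [mem_normalizer_iff] at hg ⊢
  intro x
  rw [mem_inf, mem_inf, hg x]
  have : x ∈ N ↔ g * x * g⁻¹ ∈ N := by
    constructor
    · intro hx; exact Normal.conj_mem inferInstance x hx g
    · intro hx
      have := Normal.conj_mem (inferInstance : N.Normal) _ hx g⁻¹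
      simpa [mul_assoc] using this
  rw [this]

/-- M. Hall's second reduction. -/
theorem card_sylow_eq_normal_mul (P : Sylow p G) (N : Subgroup G) [N.Normal]
    (h : (P : Subgroup G) ⊔ N = ⊤) :
    Nat.card (Sylow p G) = Nat.card (Sylow p N)
      * Nat.card (Sylow p (normalizer (((P : Subgroup G) ⊓ N : Subgroup G) : Set G))) := by
  set NQ := normalizer (((P : Subgroup G) ⊓ N : Subgroup G) : Set G) with hNQ
  have h1 : normalizer ((P : Subgroup G) : Set G) ≤ NQ := normalizer_le_normalizer_inf _ N
  have h2 : (P : Subgroup G) ≤ NQ := le_normalizer.trans h1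
  have h3 : NQ ⊔ N = ⊤ := by
    rw [eq_top_iff, ← h]
    exact sup_le_sup_right h2 N
  rw [card_sylow_of_le P NQ h2, card_sylow_normal P N, card_sylow_eq_index P,
    ← relIndex_mul_index h1, index_eq_relIndex_mul_index_sup NQ N, h3, index_top, mul_one, mul_comm]

end Cfsg.Agent.Lib.Helper75
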