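import Mathlib
import Cfsg.Agent.Lib.Helper75.SylowCount

set_option autoImplicit false

namespace Cfsg.Agent.Lib.Helper75

open Subgroup
open scoped Pointwise

variable {G : Type*} [Group G] [Finite G] {p : ℕ} [Fact p.Prime] {q : ℕ} [Fact q.Prime]

/-- a `p`-subgroup normalizing a `p'`-subgroup `M` normalizes some Sylow `q`-subgroup of `M` -/
theorem exists_invariant_sylow (P M : Subgroup G) (hP : IsPGroup p P)
    (hPM : P ≤ normalizer (M : Set G)) (hM : ¬ p ∣ Nat.card M) :
    ∃ R : Sylow q M, P ≤ normalizer (((R : Subgroup M).map M.subtype : Subgroup G) : Set G) := by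
  have hP' : IsPGroup p (P.subgroupOf (normalizer (M : Set G))) :=
    hP.comap_of_injective (normalizer (M : Set G)).subtype Subtype.coe_injective
  have hcard : ¬ p ∣ Nat.card (Sylow q M) := by
    intro h
    obtain ⟨R⟩ : Nonempty (Sylow q M) := inferInstance
    exact hM ((h.trans R.card_dvd_index).trans (Subgroup.index_dvd_card _))
  obtain ⟨R, hR⟩ := hP'.nonempty_fixed_point_of_prime_not_dvd_card (Sylow q M) hcard
  refine ⟨R, ?_⟩
  rw [le_normalizer_iff]
  rintro x hx _ ⟨r, hr, rfl⟩
  have h1 : (⟨x, hPM hx⟩ : normalizer (M : Set G)) • R = R :=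
    hR ⟨⟨x, hPM hx⟩, hx⟩
  have h2 : (⟨x, hPM hx⟩ : normalizer (M : Set G)) • r
      ∈ ((⟨x, hPM hx⟩ : normalizer (M : Set G)) • (R : Subgroup M)) :=
    Subgroup.smul_mem_pointwise_smul r _ _ hr
  rw [← Sylow.pointwise_smul_def, h1] at h2
  exact ⟨_, h2, rfl⟩

omit [Finite G] [Fact q.Prime] in
theorem normal_le_sylow (K : Subgroup G) [K.Normal] (hK : IsPGroup q K) (R : Sylow q G) :
    K ≤ R := by
  have h1 : IsPGroup q ((R : Subgroup G) ⊔ K : Subgroup G) := R.2.to_sup_of_normal_right hK
  have h2 := R.3 h1 le_sup_left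
  rw [← h2]
  exact le_sup_right

/-- relative version of the normalizer congruence for `q`-subgroups -/
theorem relIndex_normalizer_modEq (R N : Subgroup G) (hRN : R ≤ N) (hR : IsPGroup q R) :
    R.relIndex (normalizer (R : Set G) ⊓ N) ≡ R.relIndex N [MOD q] := by
  have hR' : IsPGroup q (R.subgroupOf N) := hR.comap_of_injective N.subtype Subtype.coe_injective
  obtain ⟨n, hn⟩ := hR'.exists_card_eq
  have h := Sylow.card_quotient_normalizer_modEq_card_quotient hn
  have h1 : Nat.card (N ⧸ R.subgroupOf N) = R.relIndex N := rfl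
  have h2 : Nat.card (normalizer ((R.subgroupOf N : Subgroup N) : Set N) ⧸
      (R.subgroupOf N).comap (normalizer ((R.subgroupOf N : Subgroup N) : Set N)).subtype)
      = R.relIndex (normalizer (R : Set G) ⊓ N) := by
    have h3 : Nat.card (normalizer ((R.subgroupOf N : Subgroup N) : Set N) ⧸
      (R.subgroupOf N).comap (normalizer ((R.subgroupOf N : Subgroup N) : Set N)).subtype)
      = (R.subgroupOf N).relIndex (normalizer ((R.subgroupOf N : Subgroup N) : Set N)) := rfl
    rw [h3, ← subgroupOf_normalizer_eq hRN, ← inf_subgroupOf_right (normalizer (R : Set G)) N,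
      relIndex_subgroupOf inf_le_right]
  rw [h1, h2] at h
  exact h

omit [Finite G] [Fact p.Prime] in
/-- elements of a normal `p'`-subgroup normalizing a `p`-subgroup centralize it -/
theorem commute_of_mem_normalizer (P N : Subgroup G) [N.Normal] (hdisj : P ⊓ N = ⊥)
    (r : G) (hrN : r ∈ N) (hr : r ∈ normalizer (P : Set G)) (x : G) (hx : x ∈ P) :
    x * r * x⁻¹ = r := by
  have h1 : x * r * x⁻¹ * r⁻¹ ∈ N :=
    N.mul_mem (Normal.conj_mem inferInstance r hrN x) (N.inv_mem hrN)
  have h2 : x * r * x⁻¹ * r⁻¹ ∈ P := by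
    have : r * x⁻¹ * r⁻¹ ∈ P := (hr _).1 (P.inv_mem hx)
    have := P.mul_mem hx this
    simpa [mul_assoc] using this
  have h3 : x * r * x⁻¹ * r⁻¹ ∈ P ⊓ N := ⟨h2, h1⟩
  rw [hdisj, mem_bot] at h3
  exact mul_inv_eq_one.1 h3

theorem inf_eq_bot_of_not_dvd (P N : Subgroup G) (hP : IsPGroup p P) (hN : ¬ p ∣ Nat.card N) :
    P ⊓ N = ⊥ := by
  have h1 : IsPGroup p (P ⊓ N : Subgroup G) := hP.to_le inf_le_left
  obtain ⟨k, hk⟩ := h1.exists_card_eq
  have h2 : Nat.card (P ⊓ N : Subgroup G) ∣ Nat.card N := card_dvd_of_le inf_le_right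
  rcases Nat.eq_zero_or_pos k with rfl | hk0
  · rw [pow_zero] at hk
    exact (card_eq_one).1 hk
  · exfalso
    apply hN
    rw [hk] at h2
    exact (dvd_pow_self p hk0.ne').trans h2

/-- key congruence for coprime action: the `q`-parts of `|N|` and `|C_N(P)|` agree modulo `p` -/
theorem coprime_qpart_modEq (P N : Subgroup G) [N.Normal] (hP : IsPGroup p P)
    (hN : ¬ p ∣ Nat.card N) :
    q ^ (Nat.card N).factorization q
      ≡ q ^ (Nat.card (N ⊓ normalizer (P : Set G) : Subgroup G)).factorization q [MOD p] := by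
  classical
  have hdisj : P ⊓ N = ⊥ := inf_eq_bot_of_not_dvd P N hP hN
  set C : Subgroup G := N ⊓ normalizer (P : Set G) with hC
  obtain ⟨R₀'⟩ : Nonempty (Sylow q C) := inferInstance
  set R₀ : Subgroup G := (R₀' : Subgroup C).map C.subtype with hR₀
  have hR₀C : R₀ ≤ C := map_subtype_le _
  have hcomm : ∀ r ∈ C, ∀ x ∈ P, x * r * x⁻¹ = r := fun r hr x hx =>
    commute_of_mem_normalizer P N hdisj r hr.1 hr.2 x hx
  let pr : Subgroup G → Prop := fun R => R₀ ≤ R ∧ R ≤ N ∧ IsPGroup q R ∧ P ≤ normalizer (R : Set G)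
  have hpr0 : pr R₀ := by
    refine ⟨le_rfl, hR₀C.trans inf_le_left, R₀'.2.map _, ?_⟩
    rw [le_normalizer_iff]
    intro x hx r hr
    rw [hcomm r (hR₀C hr) x hx]
    exact hr
  obtain ⟨R, -, hRmax⟩ := Finite.exists_le_maximal (p := pr) hpr0
  obtain ⟨hR0, hRN, hRq, hRP⟩ := hRmax.prop
  set M : Subgroup G := normalizer (R : Set G) ⊓ N with hM
  have hRM : R ≤ M := le_inf le_normalizer hRN
  have hPM : P ≤ normalizer (M : Set G) :=
    (hRP.trans le_normalizer).trans (normalizer_le_normalizer_inf _ N)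
  have hMp : ¬ p ∣ Nat.card M := fun h => hN (h.trans (card_dvd_of_le inf_le_right))
  obtain ⟨R₁', hR₁P⟩ := exists_invariant_sylow (q := q) P M hP hPM hMp
  have hnorm : (R.subgroupOf M).Normal := (normal_subgroupOf_iff_le_normalizer hRM).2 inf_le_left
  have hle : R.subgroupOf M ≤ R₁' :=
    normal_le_sylow (R.subgroupOf M) (hRq.comap_of_injective M.subtype Subtype.coe_injective) R₁'
  have hRR₁ : R ≤ (R₁' : Subgroup M).map M.subtype := by
    intro r hr
    exact ⟨⟨r, hRM hr⟩, hle hr, rfl⟩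
  have hpr1 : pr ((R₁' : Subgroup M).map M.subtype) :=
    ⟨hR0.trans hRR₁, (map_subtype_le _).trans inf_le_right, R₁'.2.map _, hR₁P⟩
  have hR₁R : (R₁' : Subgroup M).map M.subtype ≤ R := hRmax.le_of_ge hpr1 hRR₁
  have heq : R.subgroupOf M = R₁' := by
    apply le_antisymm hle
    intro m hm
    exact hR₁R ⟨m, hm, rfl⟩
  have hnd1 : ¬ q ∣ R.relIndex M := by
    have := R₁'.not_dvd_index
    rw [← heq] at this
    exact this
  have hnd2 : ¬ q ∣ R.relIndex N := by
    intro h
    apply hnd1
    have := relIndex_normalizer_modEq R N hRN hRq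
    exact (Nat.modEq_zero_iff_dvd.1 (this.trans (Nat.modEq_zero_iff_dvd.2 h)))
  -- the order of R
  have hcardR : Nat.card R = q ^ (Nat.card N).factorization q := by
    obtain ⟨k, hk⟩ := hRq.exists_card_eq
    have h1 : R.relIndex N * Nat.card R = Nat.card N := by
      rw [← card_mul_index (R.subgroupOf N), mul_comm]
      congr 1
      exact (Nat.card_congr (subgroupOfEquivOfLe hRN).toEquiv).symm
    have hq : q.Prime := Fact.out
    have h2 : (Nat.card N).factorization q = k := by
      rw [← h1, hk, Nat.factorization_mul (by intro h; exact hnd2 (by rw [h]; exact dvd_zero q))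
        (pow_ne_zero _ hq.ne_zero),
        Finsupp.add_apply, Nat.factorization_eq_zero_of_not_dvd hnd2, hq.factorization_pow]
      simp
    rw [hk, h2]
  -- the fixed points
  have hRC : R ⊓ C = R₀ := by
    apply le_antisymm
    · have h1 : IsPGroup q ((R ⊓ C).subgroupOf C) :=
        (hRq.to_le inf_le_left).comap_of_injective C.subtype Subtype.coe_injective
      have h2 : (R₀' : Subgroup C) ≤ (R ⊓ C).subgroupOf C := by
        intro c hc
        exact ⟨hR0 ⟨c, hc, rfl⟩, c.2⟩
      have h3 := R₀'.3 h1 h2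
      intro r hr
      have : (⟨r, hr.2⟩ : C) ∈ (R ⊓ C).subgroupOf C := hr
      rw [h3] at this
      exact ⟨_, this, rfl⟩
    · exact le_inf hR0 hR₀C
  have hcardR₀ : Nat.card R₀ = q ^ (Nat.card C).factorization q := by
    rw [← R₀'.card_eq_multiplicity]
    exact Nat.card_congr ((R₀' : Subgroup C).equivMapOfInjective _ Subtype.coe_injective).symm.toEquiv
  have hP' : IsPGroup p (P.subgroupOf (normalizer (R : Set G))) :=
    hP.comap_of_injective (normalizer (R : Set G)).subtype Subtype.coe_injective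
  have hfix := hP'.card_modEq_card_fixedPoints R
  have hfixcard : Nat.card (MulAction.fixedPoints (P.subgroupOf (normalizer (R : Set G))) R)
      = Nat.card R₀ := by
    rw [← hRC]
    refine Nat.card_congr
      { toFun := fun r => ⟨r.1.1, r.1.2, hRN r.1.2, ?_⟩
        invFun := fun r => ⟨⟨r.1, r.2.1⟩, ?_⟩
        left_inv := fun r => rfl
        right_inv := fun r => rfl }
    · have hr := r.2
      apply (centralizer_le_normalizer (P : Set G))
      rw [mem_centralizer_iff]
      intro x hx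
      have h1 := hr ⟨⟨x, hRP hx⟩, hx⟩
      have h2 : x * r.1.1 * x⁻¹ = r.1.1 := congrArg Subtype.val h1
      exact mul_inv_eq_iff_eq_mul.1 h2
    · rintro ⟨⟨x, hx1⟩, hx2⟩
      apply Subtype.ext
      exact hcomm r.1 r.2.2 x hx2
  rw [hfixcard, hcardR, hcardR₀] at hfix
  exact hfix

end Cfsg.Agent.Lib.Helper75
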