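import Cfsg.Agent.Lib.Helper75.BGTopFus
import Cfsg.Agent.S1378

/-!
B-G top level: the coprimality lemma, arbitrary complements, and the type-P data.
-/

set_option autoImplicit false

namespace Cfsg.Agent.Lib.Helper75.BGTop

open Subgroup Cfsg.Agent.Lib.Helper30 Cfsg.Agent.Lib.Helper28.BG12 Cfsg.Agent.Lib.Helper24.BG14

universe u

variable {G : Type u} [Group G]

theorem isComplIn_swap {A B M : Subgroup G} (h : Cfsg.IsComplIn A B M) : Cfsg.IsComplIn B A M := by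
  refine ⟨h.2.1, h.1, by rw [inf_comm]; exact h.2.2.1, ?_⟩
  intro m hm
  obtain ⟨a, ha, b, hb, e⟩ := h.2.2.2 m⁻¹ (M.inv_mem hm)
  refine ⟨b⁻¹, B.inv_mem hb, a⁻¹, A.inv_mem ha, ?_⟩
  rw [← mul_inv_rev, ← e, inv_inv]

/-! ### the coprimality lemma -/

theorem no_sigma'_elt (T : Texts G) {M : Subgroup G} (hM : IsCoatom M) (hk : Cfsg.kappa M = ∅)
    (ht : Cfsg.tau2 M = ∅) {x x' : G} (hx : x ∈ Cfsg.sigmaCore M) (hx1 : x ≠ 1)
    (hx' : x' ∈ M ⊓ centralizer ({x} : Set G)) (hx'1 : x' ≠ 1)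
    (hσ : ∀ p : ℕ, p.Prime → p ∣ orderOf x' → p ∉ Cfsg.sigma M) : False := by
  have h1 : orderOf x' ≠ 1 := fun h => hx'1 (orderOf_eq_one_iff.1 h)
  obtain ⟨p, hp, hpd⟩ := Nat.exists_prime_and_dvd h1
  rcases T.t1432 M hM x hx hx1 x' hx' hx'1 hσ with ⟨h, -⟩ | ⟨h, -⟩
  · have := h p hp hpd
    rw [hk] at this
    exact this
  · have := h p hp hpd
    rw [ht] at this
    exact this

theorem coprime_lemma [Finite G] (hG : Cfsg.IsMinSimpleOddOrder G) (T : Texts G)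
    {M L : Subgroup G} (hM : IsCoatom M) {x : G} (hx : x ∈ Cfsg.sigmaCore M) (hx1 : x ≠ 1)
    (hxM : ¬ centralizer ({x} : Set G) ≤ M) (hL : IsCoatom L)
    (hxL : centralizer ({x} : Set G) ≤ L) (hxσ : x ∉ Cfsg.sigmaCore L) {y : G}
    (hy : y ∈ Cfsg.sigmaHat M) (hy1 : y ≠ 1) :
    (Nat.card (Cfsg.sigmaCore L)).Coprime (Nat.card ↥(M ⊓ centralizer ({y} : Set G))) := by
  apply Nat.coprime_of_dvd
  intro p hp hpL hpC
  have hpσL : p ∈ Cfsg.sigma L := (sigmaCore_hall hG hL).2.1 p hp hpL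
  have hpM : p ∣ Nat.card M := hpC.trans (card_dvd_of_le inf_le_left)
  obtain ⟨hk, ht⟩ := (T.t1436 M hM x hx hx1 hxM L hL hxL).1 ⟨p, hpσL, hpM⟩
  have hpσM : p ∉ Cfsg.sigma M := by
    intro h
    obtain ⟨g, hg⟩ := (Cfsg.Agent.S1378.result hG).2 M L hM hL ⟨p, h, hpσL⟩
    apply hxσ
    apply mem_sigmaCore_of_order hG hL (hxL (mem_centralizer_singleton_iff.2 rfl))
    intro q hq hqd
    have h2 := prime_mem_sigma_of_dvd_order hG hM hx hq hqd
    rw [hg]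
    have h3 := sigma_cj M g
    rw [← h3] at h2
    exact h2
  by_cases hyσ : y ∈ Cfsg.sigmaCore M
  · have : Fact p.Prime := ⟨hp⟩
    obtain ⟨a, ha⟩ := exists_prime_orderOf_dvd_card' (G := ↥(M ⊓ centralizer ({y} : Set G))) p hpC
    have ha' : orderOf (a : G) = p := by rw [Subgroup.orderOf_coe, ha]
    apply no_sigma'_elt T hM hk ht hyσ hy1 a.2
    · intro h
      rw [h, orderOf_one] at ha'
      exact hp.one_lt.ne ha'
    · intro q hq hqd
      rw [ha'] at hqd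
      rw [(Nat.prime_dvd_prime_iff_eq hq hp).1 hqd]
      exact hpσM
  · obtain ⟨hyM, y₀, hy₀, hy₀1, e⟩ := hy
    have hS := sigmaCore_hall hG hM
    apply no_sigma'_elt T hM hk ht hy₀ hy₀1 (x' := y ^ Nat.card (Cfsg.sigmaCore M))
    · refine mem_inf.2 ⟨pow_mem hyM _, ?_⟩
      rw [mem_centralizer_singleton_iff]
      exact (show Commute y y₀ from e).pow_left _
    · intro h
      apply hyσ
      apply mem_sigmaCore_of_order hG hM hyM
      intro q hq hqd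
      exact hS.2.1 q hq (hqd.trans (orderOf_dvd_of_pow_eq_one h))
    · intro q hq hqd hqσ
      apply hS.2.2 q hq hqσ
      apply hqd.trans
      apply orderOf_dvd_of_pow_eq_one
      rw [← pow_mul, ← card_eq_card_mul_relIndex hS.1]
      have := pow_card_eq_one' (x := (⟨y, hyM⟩ : M))
      exact congrArg Subtype.val this

/-! ### arbitrary complements -/

theorem isComplIn_cj' (g : G) {A B M : Subgroup G} (h : Cfsg.IsComplIn A B M) :
    Cfsg.IsComplIn (cj g A) (cj g B) (cj g M) := by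
  refine ⟨cj_mono g h.1, cj_mono g h.2.1, ?_, ?_⟩
  · rw [← Subgroup.map_inf _ _ _ (MulAut.conj g).injective, h.2.2.1, Subgroup.map_bot]
  · rintro _ ⟨m, hm, rfl⟩
    obtain ⟨a, ha, b, hb, rfl⟩ := h.2.2.2 m hm
    exact ⟨_, ⟨a, ha, rfl⟩, _, ⟨b, hb, rfl⟩, map_mul _ _ _⟩

theorem decomp_cj {M K U : Subgroup G}
    (D : Cfsg.IsSigmaDecomposition M K U) {m : G} (hm : m ∈ M) :
    Cfsg.IsSigmaDecomposition M (cj m K) (cj m U) := by
  have hMm : cj m M = M := cj_eq_of_mem hm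
  have hSm : cj m (Cfsg.sigmaCore M) = Cfsg.sigmaCore M :=
    cj_eq_of_mem_normalizer (le_normalizer_sigmaCore M hm)
  refine ⟨?_, ?_, ?_, ?_⟩
  · have := D.cyclic
    exact isCyclic_of_surjective ((MulAut.conj m).toMonoidHom.subgroupMap K)
      (MonoidHom.subgroupMap_surjective _ _)
  · have := Cfsg.Agent.Lib.Helper66.isPiHallOf_cj D.hall m
    rwa [hMm] at this
  · have := isComplIn_cj' m D.compl
    rwa [cj_sup, hSm, hMm] at this
  · rw [Cfsg.Agent.Lib.Helper30.normalizer_cj]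
    exact cj_mono m D.normal

theorem decomp_of_compl [Finite G] (hG : Cfsg.IsMinSimpleOddOrder G)
    {M K U₀ U : Subgroup G} (hM : IsCoatom M) (D : Cfsg.IsSigmaDecomposition M K U₀)
    (hU : Cfsg.IsComplIn (Cfsg.sigmaCore M) U (U₀ ⊔ Cfsg.sigmaCore M)) :
    ∃ K' : Subgroup G, Cfsg.IsSigmaDecomposition M K' U := by
  have hW : U₀ ⊔ Cfsg.sigmaCore M ≤ M := sup_le_of_decomp D
  have hs : Group.IsSolvable ↥(U₀ ⊔ Cfsg.sigmaCore M) := by
    have := solvable_of_ne_top hG hM.1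
    exact Group.isSolvable_of_isSolvable_injective (Subgroup.inclusion_injective hW)
  have hS := sigmaCore_hall hG hM
  have hU₀ := isPiHallOf_U hG hM D
  have hUH : Cfsg.IsPiHallOf (Cfsg.sigma M)ᶜ U (U₀ ⊔ Cfsg.sigmaCore M) := by
    refine ⟨hU.2.1, ?_, ?_⟩
    · intro q hq hqd hqσ
      rw [card_compl (isComplIn_swap hU)] at hqd
      apply hS.2.2 q hq hqσ
      rw [← relIndex_mul_relIndex _ _ _ (le_sup_right : _ ≤ U₀ ⊔ Cfsg.sigmaCore M) hW]
      exact hqd.trans (Dvd.intro _ rfl)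
    · intro q hq hqσ hqd
      rw [← card_compl' (isComplIn_swap hU)] at hqd
      exact hqσ (hS.2.1 q hq hqd)
  obtain ⟨g, hg, e⟩ := Cfsg.Agent.Lib.Helper66.isPiHallOf_exists_conj hs hU₀ hUH
  exact ⟨cj g K, e ▸ decomp_cj D (hW hg)⟩

/-! ### the type-P data -/

theorem exists_mul_of_mem_sup {W₁ W₂ : Subgroup G} (hcomm : ∀ a ∈ W₁, ∀ b ∈ W₂, a * b = b * a)
    {x : G} (hx : x ∈ W₁ ⊔ W₂) : ∃ a ∈ W₁, ∃ b ∈ W₂, x = a * b := by
  have hW₁N : W₁ ≤ Subgroup.normalizer (W₂ : Set G) := by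
    refine le_trans ?_ (Subgroup.centralizer_le_normalizer _)
    intro a ha
    rw [Subgroup.mem_centralizer_iff]
    intro b hb
    exact (hcomm a ha b hb).symm
  have h1 : x ∈ ((W₁ ⊔ W₂ : Subgroup G) : Set G) := hx
  rw [Subgroup.coe_mul_of_left_le_normalizer_right W₁ W₂ hW₁N] at h1
  obtain ⟨a, ha, b, hb, rfl⟩ := Set.mem_mul.mp h1
  exact ⟨a, ha, b, hb, rfl⟩

theorem typeP_conj_mem [Finite G] (hG : Cfsg.IsMinSimpleOddOrder G) (T : Texts0 G)
    {M K U : Subgroup G} (hM : IsCoatom M) (D : Cfsg.IsSigmaDecomposition M K U) (hK : K ≠ ⊥)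
    {W₁ U' W₂ : Subgroup G} (hP : Cfsg.IsTypePWith M W₁ U' W₂) {m w : G} (hm : m ∈ M)
    (hw : w ∈ W₁ ⊔ W₂) (hw1 : w ∉ W₁) (hw2 : w ∉ W₂) :
    m * w * m⁻¹ ∈ Cfsg.sigmaA0 M K \ Cfsg.sigmaA M U := by
  apply X3_inv T hM D m hm
  obtain ⟨-, hW₂ne, hinf, hcomm, -, -⟩ := hP.selfNormalizing
  obtain ⟨a, ha, b, hb, rfl⟩ := exists_mul_of_mem_sup hcomm hw
  have hS := sigmaCore_hall hG hM
  have hW₂σ : W₂ ≤ Cfsg.sigmaCore M := (hP.W₂_le.trans inf_le_left).trans (T.t1355 M hM).2.1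
  have hder : ⁅M, M⁆ = U ⊔ Cfsg.sigmaCore M := (T.t1365 M hM K U D hK).1
  have hb1 : b ≠ 1 := by
    rintro rfl
    rw [mul_one] at hw1
    exact hw1 ha
  have haM : a ∈ M := hP.W₁_compl.2.1 ha
  have hbM : b ∈ M := hS.1 (hW₂σ hb)
  have hhat : a * b ∈ Cfsg.sigmaHat M := by
    refine ⟨M.mul_mem haM hbM, b, hW₂σ hb, hb1, ?_⟩
    rw [← mul_assoc b a b, hcomm a ha b hb]
  refine ⟨⟨hhat, ?_⟩, ?_⟩
  · rintro ⟨k, hk, -, m', -, e⟩
    -- the order of `a * b` divides `|K|`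
    have h1 : (a * b) ^ Nat.card K = 1 := by
      rw [e, conj_pow]
      have : k ^ Nat.card K = 1 := by
        have := pow_card_eq_one' (x := (⟨k, hk⟩ : K))
        exact congrArg Subtype.val this
      rw [this, mul_one, mul_inv_cancel]
    rw [(show Commute a b from hcomm a ha b hb).mul_pow] at h1
    have h2 : b ^ Nat.card K ∈ W₁ ⊓ W₂ := by
      refine ⟨?_, pow_mem hb _⟩
      have : b ^ Nat.card K = (a ^ Nat.card K)⁻¹ := (inv_eq_of_mul_eq_one_right h1).symm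
      rw [this]
      exact W₁.inv_mem (pow_mem ha _)
    rw [hinf, mem_bot] at h2
    have h3 : b ^ Nat.card (Cfsg.sigmaCore M) = 1 := by
      have := pow_card_eq_one' (x := (⟨b, hW₂σ hb⟩ : Cfsg.sigmaCore M))
      exact congrArg Subtype.val this
    have hcop : (Nat.card K).Coprime (Nat.card (Cfsg.sigmaCore M)) :=
      Nat.coprime_of_dvd (fun q hq h4 h5 => (D.hall.2.1 q hq h4).2.2.1 (hS.2.1 q hq h5))
    apply hb1
    have h6 := orderOf_dvd_of_pow_eq_one h2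
    have h7 := orderOf_dvd_of_pow_eq_one h3
    exact orderOf_eq_one_iff.1 (Nat.eq_one_of_dvd_coprimes hcop h6 h7)
  · rintro ⟨-, h⟩
    rw [SetLike.mem_coe, ← hder] at h
    have hbd : b ∈ ⁅M, M⁆ := by
      rw [hder]
      exact mem_sup_right (hW₂σ hb)
    have had : a ∈ ⁅M, M⁆ ⊓ W₁ := by
      refine ⟨?_, ha⟩
      have := mul_mem h (inv_mem hbd)
      rwa [mul_inv_cancel_right] at this
    rw [hP.W₁_compl.2.2.1, mem_bot] at had
    apply hw2
    rw [had, one_mul]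
    exact hb

end Cfsg.Agent.Lib.Helper75.BGTop
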