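import Cfsg.Agent.Lib.Helper75.JCCtx

set_option autoImplicit false
set_option linter.unusedSectionVars false

/-! S2946 (K-S ch.12 ladder): `Ω₁Z(J(T)) = (Z₀ ∩ Z(KJ)) (Z₀ ∩ W_K)`. -/

namespace Cfsg.Agent.Lib.Helper75.JC

open Cfsg Subgroup
open scoped commutatorElement
open Cfsg.Agent.Lib.Helper15.ZJ (AE PE)
open Cfsg.Agent.Lib.Helper53 Cfsg.Agent.Lib.Helper53.JC

variable {G : Type*} [Group G]

theorem AE_cj_of_le {S B : Subgroup G} (hB : B ∈ AE 2 S) (x : G) (h : cjj x B ≤ S) :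
    cjj x B ∈ AE 2 S :=
  ⟨h, (AE_cj x hB).2.1, fun B' h1 h2 => by
    rw [show Nat.card (cjj x B) = Nat.card B from card_cj B x]; exact hB.2.2 B' h1 h2⟩

/-- stabilizer of the coset `zW` -/
def stabW (W : Subgroup G) (z : G) : Subgroup G where
  carrier := {g | g ∈ normalizer (W : Set G) ∧ g * z * g⁻¹ * z⁻¹ ∈ W}
  one_mem' := ⟨one_mem _, by simp⟩
  mul_mem' := by
    rintro g h ⟨hg, hg'⟩ ⟨hh, hh'⟩
    refine ⟨mul_mem hg hh, ?_⟩
    have : g * h * z * (g * h)⁻¹ * z⁻¹ =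
        (g * (h * z * h⁻¹ * z⁻¹) * g⁻¹) * (g * z * g⁻¹ * z⁻¹) := by group
    rw [this]
    exact mul_mem (Four.conj_mem hg hh') hg'
  inv_mem' := by
    rintro g ⟨hg, hg'⟩
    refine ⟨inv_mem hg, ?_⟩
    have : g⁻¹ * z * g⁻¹⁻¹ * z⁻¹ = g⁻¹ * (g * z * g⁻¹ * z⁻¹)⁻¹ * g⁻¹⁻¹ := by group
    rw [this]
    exact Four.conj_mem (inv_mem hg) (inv_mem hg')

namespace Ctx

variable [Finite G] {K J S : Subgroup G}

theorem A_le_J (c : Ctx K J S) {A : Subgroup G} (hA : A ∈ AE 2 S) : A ≤ J := c.hJ ▸ le_JJ hA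

theorem mem_Q_iff (c : Ctx K J S) {s : G} (hs : s ∈ S) :
    s ∈ QX K J ↔ s ∈ centralizer (wOf K : Set G) :=
  ⟨fun h => h.2, fun h => ⟨c.syl.le hs, h⟩⟩

theorem card_eq (c : Ctx K J S) {A : Subgroup G} (hA : A ∈ AE 2 S)
    (hAW : ¬ A ≤ centralizer (wOf K : Set G)) :
    Nat.card A = Nat.card (A ⊓ QX K J : Subgroup G) * 2 := by
  obtain ⟨a, haA, haW⟩ := SetLike.not_le_iff_exists.mp hAW
  obtain ⟨w, hw, hw1, hfix⟩ := c.exists_wJ
  have hN : ∀ b ∈ A, b ∈ normalizer (wOf K : Set G) :=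
    fun b hb => c.X_le_normW (c.syl.le (hA.1 hb))
  have h2 : (QX K J).relIndex A = 2 := by
    rw [relIndex_eq_two_iff]
    refine ⟨a, haA, fun b hb => ?_⟩
    rw [c.mem_Q_iff (hA.1 (mul_mem hb haA)), c.mem_Q_iff (hA.1 hb)]
    by_cases hbW : b ∈ centralizer (wOf K : Set G)
    · right
      refine ⟨hbW, fun h => haW ?_⟩
      have := mul_mem (inv_mem hbW) h
      simpa using this
    · left
      exact ⟨c.four.mul_mem_centralizer (hN b hb) (hN a haA) hw hw1 (hfix b (hA.1 hb))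
        (hfix a (hA.1 haA)) hbW haW, hbW⟩
  have h3 := relIndex_mul_relIndex ⊥ (A ⊓ QX K J) A bot_le inf_le_left
  rw [relIndex_bot_left, relIndex_bot_left, inf_comm, inf_relIndex_right, h2] at h3
  rw [inf_comm]; exact h3.symm

theorem B_mem (c : Ctx K J S) {A : Subgroup G} (hA : A ∈ AE 2 S)
    (hAW : ¬ A ≤ centralizer (wOf K : Set G)) : wOf K ⊔ (A ⊓ QX K J) ∈ AE 2 S := by
  have hPE : PE 2 (wOf K ⊔ (A ⊓ QX K J)) := by
    apply Helper15.ZJ.PE_sup ⟨fun x hx y hy => c.four.comm hx hy,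
      fun a ha => by rw [pow_two]; exact c.four.sq a ha⟩ (hA.2.1.mono inf_le_left)
    intro w hw b hb
    exact (mem_centralizer_iff.mp hb.2.2) w hw
  refine ⟨sup_le c.W_le_S (inf_le_left.trans hA.1), hPE, fun B' h1 h2 => ?_⟩
  refine (hA.2.2 B' h1 h2).trans ?_
  rw [c.card_eq hA hAW]
  obtain ⟨m, hm⟩ := Subgroup.card_dvd_of_le (le_sup_right : A ⊓ QX K J ≤ wOf K ⊔ (A ⊓ QX K J))
  rw [hm]
  apply Nat.mul_le_mul_left
  by_contra hlt
  have hm01 : m = 0 ∨ m = 1 := by omega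
  rcases hm01 with rfl | rfl
  · have : 0 < Nat.card (wOf K ⊔ (A ⊓ QX K J) : Subgroup G) := Nat.card_pos
    omega
  · rw [mul_one] at hm
    have heq := Subgroup.eq_of_le_of_card_ge
      (le_sup_right : A ⊓ QX K J ≤ wOf K ⊔ (A ⊓ QX K J)) hm.le
    apply hAW
    have hWA : wOf K ≤ A := (le_sup_left.trans heq.ge).trans inf_le_left
    intro a ha
    rw [mem_centralizer_iff]
    intro w hw
    exact hA.2.1.1 w (hWA hw) a ha

theorem Z_mem (c : Ctx K J S) {z : G} (hz : z ∈ omegaCenterOf J) {A : Subgroup G}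
    (hA : A ∈ AE 2 S) : z ∈ A := by
  obtain ⟨h1, h2, h3⟩ := mem_omegaCenterOf_iff.mp hz
  exact Helper15.ZJ.mem_of_commute hA (c.J_le_S h1) h3
    (fun a ha => (mem_centralizer_iff.mp h2) a (c.A_le_J hA ha))

theorem conj_Z_mem_B (c : Ctx K J S) {z : G} (hz : z ∈ omegaCenterOf J) {A : Subgroup G}
    (hA : A ∈ AE 2 S) (hAW : ¬ A ≤ centralizer (wOf K : Set G)) {x : G} (hx : x ∈ K ⊔ J) :
    x * z * x⁻¹ ∈ wOf K ⊔ (A ⊓ QX K J) := by
  have hB := c.B_mem hA hAW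
  have hBQ : wOf K ⊔ (A ⊓ QX K J) ≤ QX K J := sup_le c.W_le_Q inf_le_right
  have h1 : cjj x⁻¹ (wOf K ⊔ (A ⊓ QX K J)) ≤ S := by
    rintro _ ⟨b, hb, rfl⟩
    exact c.Q_le_S (c.conj_mem_Q (inv_mem hx) (hBQ hb))
  have h2 := c.Z_mem hz (AE_cj_of_le hB x⁻¹ h1)
  have h3 := mem_cj.mp h2
  simpa using h3

theorem conj_mem_stab (c : Ctx K J S) {z : G} (hz : z ∈ omegaCenterOf J) {A : Subgroup G}
    (hA : A ∈ AE 2 S) {x a : G} (hx : x ∈ K ⊔ J) (ha : a ∈ A) :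
    x * a * x⁻¹ ∈ stabW (wOf K) z := by
  have haX : a ∈ K ⊔ J := c.syl.le (hA.1 ha)
  refine ⟨c.X_le_normW (mul_mem (mul_mem hx haX) (inv_mem hx)), ?_⟩
  by_cases hAW : A ≤ centralizer (wOf K : Set G)
  · have h1 : cjj x A ≤ S := by
      rintro _ ⟨b, hb, rfl⟩
      exact c.Q_le_S (c.conj_mem_Q hx ⟨c.syl.le (hA.1 hb), hAW hb⟩)
    have h2 : x * a * x⁻¹ ∈ J := c.A_le_J (AE_cj_of_le hA x h1) (cj_mem x ha)
    have h3 := (mem_centralizer_iff.mp (mem_omegaCenterOf_iff.mp hz).2.1) _ h2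
    have h4 : x * a * x⁻¹ * z * (x * a * x⁻¹)⁻¹ * z⁻¹ = 1 := by rw [h3]; group
    rw [h4]; exact one_mem _
  · have h1 := c.conj_Z_mem_B hz hA hAW (inv_mem hx)
    have hWN : wOf K ≤ normalizer ((A ⊓ QX K J : Subgroup G) : Set G) := by
      refine le_trans ?_ (centralizer_le_normalizer _)
      intro w hw
      rw [mem_centralizer_iff]
      intro b hb
      exact ((mem_centralizer_iff.mp hb.2.2) w hw).symm
    obtain ⟨w, hw, b, hb, e⟩ := (mem_sup_of_le_normalizer hWN).1 h1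
    have e' : z = x * (w * b) * x⁻¹ := by rw [← e]; group
    have hab : b * a⁻¹ = a⁻¹ * b := hA.2.1.1 b hb.1 a⁻¹ (inv_mem ha)
    have : x * a * x⁻¹ * z * (x * a * x⁻¹)⁻¹ * z⁻¹ = x * (a * w * a⁻¹ * w⁻¹) * x⁻¹ := by
      rw [e']
      calc x * a * x⁻¹ * (x * (w * b) * x⁻¹) * (x * a * x⁻¹)⁻¹ * (x * (w * b) * x⁻¹)⁻¹
          = x * (a * w * (b * a⁻¹) * b⁻¹ * w⁻¹) * x⁻¹ := by group
        _ = x * (a * w * (a⁻¹ * b) * b⁻¹ * w⁻¹) * x⁻¹ := by rw [hab]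
        _ = x * (a * w * a⁻¹ * w⁻¹) * x⁻¹ := by group
    rw [this]
    exact Four.conj_mem (c.X_le_normW hx)
      (mul_mem (Four.conj_mem (c.X_le_normW haX) hw) (inv_mem hw))

theorem X_le_stab (c : Ctx K J S) {z : G} (hz : z ∈ omegaCenterOf J) :
    K ⊔ J ≤ stabW (wOf K) z := by
  have hcJ : ∀ x ∈ K ⊔ J, ∀ y ∈ J, x * y * x⁻¹ ∈ stabW (wOf K) z := by
    intro x hx
    have : J ≤ (stabW (wOf K) z).comap (MulAut.conj x).toMonoidHom := by
      rw [← c.hJ, JJ_le_iff]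
      intro A hA a ha
      exact c.conj_mem_stab hz hA hx ha
    intro y hy; exact this hy
  have hJ : J ≤ stabW (wOf K) z := by
    intro y hy
    have := hcJ 1 (one_mem _) y hy
    simpa using this
  refine sup_le ?_ hJ
  conv_lhs => rw [← c.comm]
  rw [Subgroup.commutator_le]
  intro k hk y hy
  rw [commutatorElement_def]
  exact mul_mem (hcJ k (mem_sup_left hk) y hy) (inv_mem (hJ hy))

theorem comm_mem_W (c : Ctx K J S) {z x : G} (hz : z ∈ omegaCenterOf J) (hx : x ∈ K ⊔ J) :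
    x * z * x⁻¹ * z⁻¹ ∈ wOf K := (c.X_le_stab hz hx).2

theorem exists_A (c : Ctx K J S) : ∃ A ∈ AE 2 S, ¬ A ≤ centralizer (wOf K : Set G) := by
  by_contra hcon
  push Not at hcon
  have hJQ : J ≤ QX K J := le_inf le_sup_right (by rw [← c.hJ, JJ_le_iff]; exact hcon)
  have hKQ : K ≤ QX K J := by
    conv_lhs => rw [← c.comm]
    rw [Subgroup.commutator_le]
    intro k hk y hy
    rw [commutatorElement_def]
    exact mul_mem (c.conj_mem_Q (mem_sup_left hk) (hJQ hy)) (inv_mem (hJQ hy))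
  obtain ⟨k, hk, -, hk2⟩ := c.exists_k0
  exact hk2 (hKQ hk).2

/-- `Z₀` centralizes `C_X(W)` -/
theorem Z_comm_Q (c : Ctx K J S) {z q : G} (hz : z ∈ omegaCenterOf J) (hq : q ∈ QX K J) :
    q * z * q⁻¹ * z⁻¹ = 1 := by
  obtain ⟨A, hA, hAW⟩ := c.exists_A
  obtain ⟨a, haA, haW⟩ := SetLike.not_le_iff_exists.mp hAW
  obtain ⟨k, hk, hodd, hkW⟩ := c.exists_k0
  have hzc := mem_centralizer_iff.mp (mem_omegaCenterOf_iff.mp hz).2.1
  have haz : a * z = z * a := hzc a (c.A_le_J hA haA)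
  -- `a` fixes all `[q', z]`
  have star : ∀ q' ∈ QX K J, a * (q' * z * q'⁻¹ * z⁻¹) * a⁻¹ = q' * z * q'⁻¹ * z⁻¹ := by
    intro q' hq'
    have h1 : cjj q'⁻¹ A ≤ S := by
      rintro _ ⟨b, hb, rfl⟩
      exact mul_mem (mul_mem (c.Q_le_S (inv_mem hq')) (hA.1 hb)) (inv_mem (c.Q_le_S (inv_mem hq')))
    have h2 : q'⁻¹ * a * q'⁻¹⁻¹ ∈ J := c.A_le_J (AE_cj_of_le hA q'⁻¹ h1) (cj_mem q'⁻¹ haA)
    have h3 := hzc _ h2
    have h4 : a * (q' * z * q'⁻¹) = (q' * z * q'⁻¹) * a := by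
      calc a * (q' * z * q'⁻¹) = q' * ((q'⁻¹ * a * q'⁻¹⁻¹) * z) * q'⁻¹ := by group
        _ = q' * (z * (q'⁻¹ * a * q'⁻¹⁻¹)) * q'⁻¹ := by rw [h3]
        _ = (q' * z * q'⁻¹) * a := by group
    have h5 : a * z⁻¹ = z⁻¹ * a := by
      calc a * z⁻¹ = z⁻¹ * (z * a) * z⁻¹ := by group
        _ = z⁻¹ * (a * z) * z⁻¹ := by rw [haz]
        _ = z⁻¹ * a := by group
    calc a * (q' * z * q'⁻¹ * z⁻¹) * a⁻¹ = (a * (q' * z * q'⁻¹)) * z⁻¹ * a⁻¹ := by group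
      _ = (q' * z * q'⁻¹) * (a * z⁻¹) * a⁻¹ := by rw [h4]; group
      _ = q' * z * q'⁻¹ * z⁻¹ := by rw [h5]; group
  -- conjugates of `[q, z]`
  have star2 : ∀ x ∈ K ⊔ J, x * (q * z * q⁻¹ * z⁻¹) * x⁻¹ =
      (x * q * x⁻¹) * z * (x * q * x⁻¹)⁻¹ * z⁻¹ := by
    intro x hx
    have hq' := c.conj_mem_Q hx hq
    have hw1 := c.comm_mem_W hz hx
    have hv := c.comm_mem_W hz hq'.1
    have e1 : x * z * x⁻¹ = (x * z * x⁻¹ * z⁻¹) * z := by group
    have hc1 := (mem_centralizer_iff.mp hq'.2) _ hw1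
    calc x * (q * z * q⁻¹ * z⁻¹) * x⁻¹
        = (x * q * x⁻¹) * (x * z * x⁻¹) * (x * q * x⁻¹)⁻¹ * (x * z * x⁻¹)⁻¹ := by group
      _ = ((x * q * x⁻¹) * (x * z * x⁻¹ * z⁻¹)) * z * (x * q * x⁻¹)⁻¹ * z⁻¹ *
            (x * z * x⁻¹ * z⁻¹)⁻¹ := by group
      _ = ((x * z * x⁻¹ * z⁻¹) * (x * q * x⁻¹)) * z * (x * q * x⁻¹)⁻¹ * z⁻¹ *
            (x * z * x⁻¹ * z⁻¹)⁻¹ := by rw [hc1]
      _ = ((x * z * x⁻¹ * z⁻¹) * ((x * q * x⁻¹) * z * (x * q * x⁻¹)⁻¹ * z⁻¹)) *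
            (x * z * x⁻¹ * z⁻¹)⁻¹ := by group
      _ = (((x * q * x⁻¹) * z * (x * q * x⁻¹)⁻¹ * z⁻¹) * (x * z * x⁻¹ * z⁻¹)) *
            (x * z * x⁻¹ * z⁻¹)⁻¹ := by rw [c.four.comm hw1 hv]
      _ = (x * q * x⁻¹) * z * (x * q * x⁻¹)⁻¹ * z⁻¹ := by group
  by_contra hne
  have hw := c.comm_mem_W hz hq.1
  have hkX : k ∈ K ⊔ J := mem_sup_left hk
  have hw' : k * (q * z * q⁻¹ * z⁻¹) * k⁻¹ ∈ wOf K := Four.conj_mem (c.X_le_normW hkX) hw
  have hne' : k * (q * z * q⁻¹ * z⁻¹) * k⁻¹ ≠ 1 := by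
    intro h
    apply hne
    have : q * z * q⁻¹ * z⁻¹ = k⁻¹ * (k * (q * z * q⁻¹ * z⁻¹) * k⁻¹) * k := by group
    rw [this, h]; group
  have hne2 : q * z * q⁻¹ * z⁻¹ ≠ k * (q * z * q⁻¹ * z⁻¹) * k⁻¹ :=
    fun h => hne (c.eq_one_of_fix hk hodd hkW hw h.symm)
  apply haW
  apply c.four.fix_all hw hw' hne hne' hne2 (star q hq)
  rw [star2 k hkX]
  exact star _ (c.conj_mem_Q hkX hq)

theorem Z_commute_Q (c : Ctx K J S) {z q : G} (hz : z ∈ omegaCenterOf J) (hq : q ∈ QX K J) :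
    q * z = z * q := by
  have h := c.Z_comm_Q hz hq
  calc q * z = (q * z * q⁻¹ * z⁻¹) * z * q := by group
    _ = z * q := by rw [h, one_mul]

theorem mem_Z_of (c : Ctx K J S) {w : G} (hw : w ∈ wOf K) (hwJ : w ∈ centralizer (J : Set G)) :
    w ∈ omegaCenterOf J := by
  obtain ⟨A, hA⟩ := Helper15.ZJ.AE_nonempty 2 S
  have h2 : w ^ 2 = 1 := by rw [pow_two]; exact c.four.sq w hw
  have h1 : w ∈ A := Helper15.ZJ.mem_of_commute hA (c.W_le_S hw) h2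
    (fun a ha => (mem_centralizer_iff.mp hwJ) a (c.A_le_J hA ha))
  exact mem_omegaCenterOf (c.A_le_J hA h1) hwJ h2

theorem decomp (c : Ctx K J S) {z : G} (hz : z ∈ omegaCenterOf J) :
    ∃ w ∈ wOf K, w ∈ centralizer (J : Set G) ∧
      z * w ∈ centralizer ((K ⊔ J : Subgroup G) : Set G) := by
  obtain ⟨k, hk, hodd, hkW⟩ := c.exists_k0
  have hkX : k ∈ K ⊔ J := mem_sup_left hk
  have hkN := c.X_le_normW hkX
  have hzc := mem_centralizer_iff.mp (mem_omegaCenterOf_iff.mp hz).2.1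
  -- the map `w ↦ [k, w]` is a bijection of `W`
  let f : wOf K → wOf K := fun w =>
    ⟨k * w * k⁻¹ * (w : G)⁻¹, mul_mem (Four.conj_mem hkN w.2) (inv_mem w.2)⟩
  have hf : Function.Injective f := by
    intro v w hvw
    have h1 : k * (v : G) * k⁻¹ * (v : G)⁻¹ = k * w * k⁻¹ * (w : G)⁻¹ := congrArg Subtype.val hvw
    have hvw' : (w : G)⁻¹ * v ∈ wOf K := mul_mem (inv_mem w.2) v.2
    have h2 : k * ((w : G)⁻¹ * v) * k⁻¹ = (w : G)⁻¹ * v := by
      have e1 : k * (v : G) * k⁻¹ = k * w * k⁻¹ * (w : G)⁻¹ * v := by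
        rw [← h1]; group
      calc k * ((w : G)⁻¹ * v) * k⁻¹ = (k * w * k⁻¹)⁻¹ * (k * (v : G) * k⁻¹) := by group
        _ = (w : G)⁻¹ * v := by rw [e1]; group
    have h3 := c.eq_one_of_fix hk hodd hkW hvw' h2
    apply Subtype.ext
    calc (v : G) = w * ((w : G)⁻¹ * v) := by group
      _ = w := by rw [h3, mul_one]
  have hfs : Function.Surjective f := Finite.injective_iff_surjective.mp hf
  have ht := c.comm_mem_W hz hkX
  obtain ⟨⟨w, hw⟩, hfw⟩ := hfs ⟨_, ht⟩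
  have hfw' : k * w * k⁻¹ * w⁻¹ = k * z * k⁻¹ * z⁻¹ := congrArg Subtype.val hfw
  have hzW : ∀ v ∈ wOf K, v * z = z * v := fun v hv => c.Z_commute_Q hz (c.W_le_Q hv)
  -- `z * w` commutes with `k`
  have hck : k * (z * w) = (z * w) * k := by
    have e1 : k * z * k⁻¹ = (k * z * k⁻¹ * z⁻¹) * z := by group
    have e2 : k * w * k⁻¹ = (k * z * k⁻¹ * z⁻¹) * w := by rw [← hfw']; group
    have e3 : k * (z * w) * k⁻¹ = z * w := by
      calc k * (z * w) * k⁻¹ = (k * z * k⁻¹) * (k * w * k⁻¹) := by group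
        _ = ((k * z * k⁻¹ * z⁻¹) * z) * ((k * z * k⁻¹ * z⁻¹) * w) := by rw [← e1, ← e2]
        _ = (z * (k * z * k⁻¹ * z⁻¹)) * ((k * z * k⁻¹ * z⁻¹) * w) := by rw [hzW _ ht]
        _ = z * ((k * z * k⁻¹ * z⁻¹) * (k * z * k⁻¹ * z⁻¹)) * w := by group
        _ = z * w := by rw [c.four.sq _ ht, mul_one]
    calc k * (z * w) = (k * (z * w) * k⁻¹) * k := by group
      _ = (z * w) * k := by rw [e3]
  -- `K` centralizes `z * w`
  have hKc : K ≤ centralizer ({z * w} : Set G) := by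
    have hR : pCoreOf 2 K ≤ K ⊓ centralizer ({z * w} : Set G) := by
      refine le_inf (pCoreOf_le 2 K) ?_
      intro r hr
      rw [mem_centralizer_singleton_iff]
      have h1 := c.Z_commute_Q hz (R_le_Q K J hr)
      have h2 := (mem_centralizer_iff.mp (R_le_cent K hr)) w hw
      calc r * (z * w) = (r * z) * w := by group
        _ = z * (r * w) := by rw [h1]; group
        _ = z * w * r := by rw [← h2]; group
    rcases eq_or_eq_of_relIndex_three c.idx hR inf_le_left with h | h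
    · exfalso
      exact hkW (R_le_cent K (h ⟨hk, mem_centralizer_singleton_iff.mpr hck⟩))
    · exact h.trans inf_le_right
  -- `w` is centralized by `J`
  have hwJ : ∀ y ∈ J, y * w * y⁻¹ = w := by
    intro y hy
    have hyX : y ∈ K ⊔ J := mem_sup_right hy
    have hv : y * w * y⁻¹ * w⁻¹ ∈ wOf K :=
      mul_mem (Four.conj_mem (c.X_le_normW hyX) hw) (inv_mem hw)
    have hyz : y * z = z * y := hzc y hy
    have e1 : y * (z * w) * y⁻¹ * (z * w)⁻¹ = y * w * y⁻¹ * w⁻¹ := by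
      calc y * (z * w) * y⁻¹ * (z * w)⁻¹ = (y * z) * w * y⁻¹ * w⁻¹ * z⁻¹ := by group
        _ = z * (y * w * y⁻¹ * w⁻¹) * z⁻¹ := by rw [hyz]; group
        _ = (y * w * y⁻¹ * w⁻¹) * z * z⁻¹ := by rw [← hzW _ hv]
        _ = y * w * y⁻¹ * w⁻¹ := by group
    have hk' : y⁻¹ * k * y⁻¹⁻¹ ∈ K := Four.conj_mem (c.J_le_norm (inv_mem hy)) hk
    have h1 := mem_centralizer_singleton_iff.mp (hKc hk')
    have h2 : k * (y * (z * w) * y⁻¹) = (y * (z * w) * y⁻¹) * k := by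
      calc k * (y * (z * w) * y⁻¹) = y * ((y⁻¹ * k * y⁻¹⁻¹) * (z * w)) * y⁻¹ := by group
        _ = y * ((z * w) * (y⁻¹ * k * y⁻¹⁻¹)) * y⁻¹ := by rw [h1]
        _ = (y * (z * w) * y⁻¹) * k := by group
    have h3 : k * (y * w * y⁻¹ * w⁻¹) * k⁻¹ = y * w * y⁻¹ * w⁻¹ := by
      rw [← e1]
      calc k * (y * (z * w) * y⁻¹ * (z * w)⁻¹) * k⁻¹
          = (k * (y * (z * w) * y⁻¹)) * (k * (z * w))⁻¹ := by group
        _ = y * (z * w) * y⁻¹ * (z * w)⁻¹ := by rw [h2, hck]; group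
    have h4 := c.eq_one_of_fix hk hodd hkW hv h3
    calc y * w * y⁻¹ = (y * w * y⁻¹ * w⁻¹) * w := by group
      _ = w := by rw [h4, one_mul]
  have hwJ' : w ∈ centralizer (J : Set G) := by
    rw [mem_centralizer_iff]
    intro y hy
    calc y * w = (y * w * y⁻¹) * y := by group
      _ = w * y := by rw [hwJ y hy]
  refine ⟨w, hw, hwJ', ?_⟩
  have hJc : J ≤ centralizer ({z * w} : Set G) := by
    intro y hy
    rw [mem_centralizer_singleton_iff]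
    have h1 := hzc y hy
    have h2 := (mem_centralizer_iff.mp hwJ') y hy
    calc y * (z * w) = (y * z) * w := by group
      _ = z * (y * w) := by rw [h1]; group
      _ = z * w * y := by rw [h2]; group
  rw [mem_centralizer_iff]
  intro x hx
  exact mem_centralizer_singleton_iff.mp (sup_le hKc hJc hx)

theorem card_inf (c : Ctx K J S) : Nat.card (omegaCenterOf J ⊓ wOf K : Subgroup G) = 2 := by
  obtain ⟨w, hw, hw1, hfix⟩ := c.exists_wJ
  have hwJ : w ∈ centralizer (J : Set G) := by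
    rw [mem_centralizer_iff]
    intro y hy
    calc y * w = (y * w * y⁻¹) * y := by group
      _ = w * y := by rw [hfix y (c.J_le_S hy)]
  have hmem : w ∈ omegaCenterOf J ⊓ wOf K := ⟨c.mem_Z_of hw hwJ, hw⟩
  have hdvd : Nat.card (omegaCenterOf J ⊓ wOf K : Subgroup G) ∣ 4 := by
    rw [← c.four.card]; exact Subgroup.card_dvd_of_le inf_le_right
  have hne1 : Nat.card (omegaCenterOf J ⊓ wOf K : Subgroup G) ≠ 1 := by
    intro h
    rw [Subgroup.card_eq_one] at h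
    rw [h, mem_bot] at hmem
    exact hw1 hmem
  have hne4 : Nat.card (omegaCenterOf J ⊓ wOf K : Subgroup G) ≠ 4 := by
    intro h
    have heq := Subgroup.eq_of_le_of_card_ge
      (inf_le_right : omegaCenterOf J ⊓ wOf K ≤ wOf K) (by rw [h, c.four.card])
    obtain ⟨A, hA, hAW⟩ := c.exists_A
    apply hAW
    have h1 : wOf K ≤ centralizer (J : Set G) :=
      (heq.ge.trans inf_le_left).trans (omegaCenterOf_le_centralizer J)
    exact (c.A_le_J hA).trans (le_centralizer_iff.mp h1)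
  have hle := Nat.le_of_dvd (by norm_num) hdvd
  interval_cases h : Nat.card (omegaCenterOf J ⊓ wOf K : Subgroup G) <;> simp_all

end Ctx

/-- S2946, from `IsJComponent` alone -/
theorem S2946_of [Finite G] {T K : Subgroup G} (hT : IsPGroup 2 T) (hK : IsJComponent T K) :
    Nat.card ↥(omegaCenterOf (thompsonSubgroupOf 2 T) ⊓ wOf K) = 2 ∧
      (omegaCenterOf (thompsonSubgroupOf 2 T) ⊓ ((K ⊔ thompsonSubgroupOf 2 T) ⊓
        centralizer ((K ⊔ thompsonSubgroupOf 2 T : Subgroup G) : Set G))) ⊔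
        (omegaCenterOf (thompsonSubgroupOf 2 T) ⊓ wOf K) =
      omegaCenterOf (thompsonSubgroupOf 2 T) := by
  obtain ⟨S, c⟩ := exists_ctx hT hK
  refine ⟨c.card_inf, le_antisymm (sup_le inf_le_left inf_le_left) ?_⟩
  intro z hz
  obtain ⟨w, hw, hwJ, hzw⟩ := c.decomp hz
  have hwZ := c.mem_Z_of hw hwJ
  have e : z = (z * w) * w⁻¹ := by group
  rw [e]
  refine mul_mem (mem_sup_left (mem_inf.mpr ⟨mul_mem hz hwZ, mem_inf.mpr ⟨?_, hzw⟩⟩))
    (mem_sup_right (mem_inf.mpr ⟨inv_mem hwZ, inv_mem hw⟩))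
  exact mem_sup_right (omegaCenterOf_le _ (mul_mem hz hwZ))

theorem centralizer_union_eq (A B : Subgroup G) :
    centralizer ((A : Set G) ⊔ (B : Set G)) = centralizer ((A ⊔ B : Subgroup G) : Set G) := by
  apply le_antisymm
  · intro g hg
    rw [mem_centralizer_iff] at hg ⊢
    have hA : A ≤ centralizer ({g} : Set G) := fun a ha =>
      mem_centralizer_singleton_iff.mpr (hg a (Or.inl ha))
    have hB : B ≤ centralizer ({g} : Set G) := fun b hb =>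
      mem_centralizer_singleton_iff.mpr (hg b (Or.inr hb))
    intro x hx
    exact mem_centralizer_singleton_iff.mp (sup_le hA hB hx)
  · apply centralizer_le
    rintro x (hx | hx)
    · exact mem_sup_left hx
    · exact mem_sup_right hx

end Cfsg.Agent.Lib.Helper75.JC
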