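import Mathlib
import Cfsg.Prelude.Def_Solvable

set_option autoImplicit false

namespace Cfsg.Agent.Lib.Helper75

open scoped Pointwise

section Semidirect

variable {V H : Type*} [Group V] [Group H] (φ : H →* MulAut V)

theorem mem_range_inr_iff (x : V ⋊[φ] H) :
    x ∈ (SemidirectProduct.inr : H →* V ⋊[φ] H).range ↔ x.left = 1 := by
  constructor
  · rintro ⟨h, rfl⟩; rfl
  · intro hx
    refine ⟨x.right, ?_⟩
    ext
    · simp [hx]
    · simp

theorem mem_conj_smul_iff {L : Type*} [Group L] (C : Subgroup L) (g x : L) :
    x ∈ MulAut.conj g • C ↔ g⁻¹ * x * g ∈ C := by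
  rw [Subgroup.mem_pointwise_smul_iff_inv_smul_mem, MulAut.smul_def, MulAut.conj_inv_apply]

theorem conj_left (g x : V ⋊[φ] H) (hx : x.left = 1) :
    (g⁻¹ * x * g).left = φ g.right⁻¹ (g.left⁻¹ * φ x.right g.left) := by
  simp [hx, SemidirectProduct.mul_left, SemidirectProduct.inv_left, SemidirectProduct.mul_right,
    SemidirectProduct.inv_right, map_mul]

theorem isFrobeniusComplement_range_inr [Nontrivial V] [Nontrivial H]
    (hfpf : ∀ h : H, h ≠ 1 → ∀ v : V, φ h v = v → v = 1) :
    Cfsg.IsFrobeniusComplement (SemidirectProduct.inr : H →* V ⋊[φ] H).range := by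
  refine ⟨?_, ?_, ?_⟩
  · intro h
    obtain ⟨a, ha⟩ := exists_ne (1 : H)
    have : (SemidirectProduct.inr a : V ⋊[φ] H) ∈ (SemidirectProduct.inr : H →* V ⋊[φ] H).range := ⟨a, rfl⟩
    rw [h, Subgroup.mem_bot] at this
    exact ha (congrArg SemidirectProduct.right this)
  · intro h
    obtain ⟨v, hv⟩ := exists_ne (1 : V)
    have : (SemidirectProduct.inl v : V ⋊[φ] H) ∈ (SemidirectProduct.inr : H →* V ⋊[φ] H).range := by
      rw [h]; trivial
    rw [mem_range_inr_iff] at this
    exact hv this
  · intro g hg
    rw [mem_range_inr_iff] at hg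
    rw [Subgroup.eq_bot_iff_forall]
    rintro x ⟨hx1, hx2⟩
    have hx1' : x.left = 1 := (mem_range_inr_iff φ x).1 hx1
    have hx2' : (g⁻¹ * x * g).left = 1 := (mem_range_inr_iff φ _).1 ((mem_conj_smul_iff _ g x).1 hx2)
    rw [conj_left φ g x hx1', map_eq_one_iff _ (MulEquiv.injective _)] at hx2'
    have h3 : φ x.right g.left = g.left := by
      rw [inv_mul_eq_one] at hx2'; exact hx2'.symm
    have h4 : x.right = 1 := by
      by_contra h
      exact hg (hfpf _ h _ h3)
    ext
    · exact hx1'
    · exact h4

theorem frobeniusKernel_range_inr [Finite V]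
    (hfpf : ∀ h : H, h ≠ 1 → ∀ v : V, φ h v = v → v = 1) :
    Cfsg.frobeniusKernel (SemidirectProduct.inr : H →* V ⋊[φ] H).range
      = Set.range (SemidirectProduct.inl : V → V ⋊[φ] H) := by
  ext x
  constructor
  · intro hx
    by_cases hr : x.right = 1
    · refine ⟨x.left, ?_⟩
      ext
      · rfl
      · exact hr.symm
    · exfalso
      have hinj : Function.Injective (fun u : V => u * φ x.right u⁻¹) := by
        intro u w huw
        have huw' : u * φ x.right u⁻¹ = w * φ x.right w⁻¹ := huw
        have h1 : φ x.right (w⁻¹ * u) = w⁻¹ * u := by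
          rw [map_inv, map_inv] at huw'
          have : w⁻¹ * u = (φ x.right w)⁻¹ * φ x.right u := by
            have h := congrArg (fun z => w⁻¹ * z * φ x.right u) huw'
            simpa [mul_assoc] using h
          rw [map_mul, map_inv]
          exact this.symm
        have h2 := hfpf _ hr _ h1
        rw [inv_mul_eq_one] at h2
        exact h2.symm
      obtain ⟨u, hu⟩ := (Finite.injective_iff_surjective.1 hinj) x.left
      have hu' : u * φ x.right u⁻¹ = x.left := hu
      rcases hx with hx | hx
      · exact hr (by rw [hx]; rfl)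
      · apply hx (SemidirectProduct.inl u)
        rw [mem_conj_smul_iff, mem_range_inr_iff]
        simp only [SemidirectProduct.mul_left, SemidirectProduct.inv_left, SemidirectProduct.right_inl,
          SemidirectProduct.left_inl, inv_one, map_one, MulAut.one_apply, SemidirectProduct.mul_right,
          SemidirectProduct.inv_right, one_mul]
        rw [← hu', map_inv]
        group
  · rintro ⟨v, rfl⟩
    by_cases hv : v = 1
    · left; rw [hv]; rfl
    · right
      intro g hg
      rw [mem_conj_smul_iff, mem_range_inr_iff] at hg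
      apply hv
      have h1 : (g⁻¹ * SemidirectProduct.inl v * g).right = 1 := by simp
      have h2 : g⁻¹ * SemidirectProduct.inl v * g = 1 := by
        ext
        · exact hg
        · exact h1
      have h3 : (SemidirectProduct.inl v : V ⋊[φ] H) = 1 := by
        have : (SemidirectProduct.inl v : V ⋊[φ] H) = g * (g⁻¹ * SemidirectProduct.inl v * g) * g⁻¹ := by
          group
        rw [this, h2]; group
      exact congrArg SemidirectProduct.left h3

end Semidirect

theorem exists_small_group (X : Type*) [Group X] [Finite X] :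
    ∃ (X' : Type) (_ : Group X') (_ : Finite X'), Nonempty (X ≃* X') := by
  obtain ⟨n, ⟨e0⟩⟩ := Finite.exists_equiv_fin X
  let e : X ≃ {i : ℕ // i < n} := e0.trans Fin.equivSubtype
  let _ : Group {i : ℕ // i < n} := e.symm.group
  exact ⟨{i : ℕ // i < n}, inferInstance, Finite.of_equiv _ e, ⟨(e.symm.mulEquiv).symm⟩⟩

/-- A finite group acting fixed-point-freely on a finite nontrivial group is a Frobenius complement
(in a group living in the lowest universe), with kernel of the expected size. -/
theorem exists_frobenius_of_fpf {H V : Type*} [Group H] [Group V] [Finite H] [Finite V]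
    [Nontrivial H] [Nontrivial V] (φ : H →* MulAut V)
    (hfpf : ∀ h : H, h ≠ 1 → ∀ v : V, φ h v = v → v = 1) :
    ∃ (L : Type) (_ : Group L) (_ : Finite L) (C : Subgroup L), Cfsg.IsFrobeniusComplement C ∧
      Nonempty (H ≃* C) ∧ Nat.card (Cfsg.frobeniusKernel C) = Nat.card V := by
  obtain ⟨H', _, _, ⟨eH⟩⟩ := exists_small_group H
  obtain ⟨V', _, _, ⟨eV⟩⟩ := exists_small_group V
  have : Nontrivial H' := eH.symm.toEquiv.nontrivial
  have : Nontrivial V' := eV.symm.toEquiv.nontrivial
  let φ' : H' →* MulAut V' := (MulAut.congr eV).toMonoidHom.comp (φ.comp eH.symm.toMonoidHom)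
  have hφ' : ∀ h v, φ' h v = eV (φ (eH.symm h) (eV.symm v)) := fun _ _ => rfl
  have hfpf' : ∀ h : H', h ≠ 1 → ∀ v : V', φ' h v = v → v = 1 := by
    intro h hh v hv
    rw [hφ'] at hv
    have h1 : eH.symm h ≠ 1 := by
      intro h2
      apply hh
      rw [← eH.apply_symm_apply h, h2, map_one]
    have h2 : φ (eH.symm h) (eV.symm v) = eV.symm v := by
      apply eV.injective
      rw [hv, eV.apply_symm_apply]
    have h3 := hfpf _ h1 _ h2
    rw [← eV.apply_symm_apply v, h3, map_one]
  refine ⟨V' ⋊[φ'] H', inferInstance,
    Finite.of_equiv _ SemidirectProduct.equivProd.symm,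
    (SemidirectProduct.inr : H' →* V' ⋊[φ'] H').range,
    isFrobeniusComplement_range_inr φ' hfpf', ?_, ?_⟩
  · exact ⟨eH.trans (MonoidHom.ofInjective SemidirectProduct.inr_injective)⟩
  · rw [frobeniusKernel_range_inr φ' hfpf', Nat.card_congr eV.toEquiv]
    exact Nat.card_congr (Equiv.ofInjective _ SemidirectProduct.inl_injective).symm

/-- the automorphisms of the multiplicative copy of a module given by a monoid hom into the ring -/
def moduleAut {H R M : Type*} [Group H] [Ring R] [AddCommGroup M] [Module R M] (ι : H →* R) :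
    H →* MulAut (Multiplicative M) where
  toFun h :=
    { toFun := fun v => Multiplicative.ofAdd (ι h • Multiplicative.toAdd v)
      invFun := fun v => Multiplicative.ofAdd (ι h⁻¹ • Multiplicative.toAdd v)
      left_inv := fun v => by
        simp only [toAdd_ofAdd, ← mul_smul, ← map_mul, inv_mul_cancel, map_one, one_smul, ofAdd_toAdd]
      right_inv := fun v => by
        simp only [toAdd_ofAdd, ← mul_smul, ← map_mul, mul_inv_cancel, map_one, one_smul, ofAdd_toAdd]
      map_mul' := fun v w => by
        simp only [toAdd_mul, smul_add, ofAdd_add] }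
  map_one' := by
    ext v
    simp
  map_mul' a b := by
    ext v
    simp [mul_smul]

theorem exists_frobenius_of_module {H R M : Type*} [Group H] [Finite H] [Nontrivial H] [Ring R]
    [AddCommGroup M] [Module R M] [Finite M] [Nontrivial M] (ι : H →* R)
    (hfpf : ∀ h : H, h ≠ 1 → ∀ v : M, ι h • v = v → v = 0) :
    ∃ (L : Type) (_ : Group L) (_ : Finite L) (C : Subgroup L), Cfsg.IsFrobeniusComplement C ∧
      Nonempty (H ≃* C) ∧ Nat.card (Cfsg.frobeniusKernel C) = Nat.card M := by
  have := exists_frobenius_of_fpf (moduleAut (M := M) ι) (by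
    intro h hh v hv
    have : ι h • Multiplicative.toAdd v = Multiplicative.toAdd v := congrArg Multiplicative.toAdd hv
    have := hfpf h hh _ this
    exact Multiplicative.toAdd.injective this)
  exact this

end Cfsg.Agent.Lib.Helper75
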