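import Mathlib

set_option autoImplicit false

namespace Cfsg.Agent.Lib.Helper75

/-- `-1` is a sum of two squares modulo every odd number (via Dirichlet and Fermat). -/
theorem exists_sq_add_sq_add_one (n : ℕ) (hn : Odd n) : ∃ a b : ℕ, n ∣ a ^ 2 + b ^ 2 + 1 := by
  obtain ⟨k, rfl⟩ := hn
  have hcop : (2 * (2 * k + 1) - 1).Coprime (4 * (2 * k + 1)) := by
    have e : 2 * (2 * k + 1) - 1 = 4 * k + 1 := by omega
    rw [e]
    apply Nat.Coprime.mul_right
    · have : (4 * k + 1).Coprime (2 ^ 2) := by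
        apply Nat.Coprime.pow_right
        rw [Nat.coprime_two_right]
        exact ⟨2 * k, by ring⟩
      exact this
    · have h1 : 4 * k + 1 = 1 + (2 * k + 1) * 2 - 2 := by omega
      rw [Nat.coprime_iff_gcd_eq_one]
      have h2 : Nat.gcd (4 * k + 1) (2 * k + 1) ∣ 1 := by
        have d1 := Nat.gcd_dvd_left (4 * k + 1) (2 * k + 1)
        have d2 := Nat.gcd_dvd_right (4 * k + 1) (2 * k + 1)
        have d3 : Nat.gcd (4 * k + 1) (2 * k + 1) ∣ 2 * (2 * k + 1) := Dvd.dvd.mul_left d2 2
        have := (Nat.dvd_sub d3 d1)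
        have e2 : 2 * (2 * k + 1) - (4 * k + 1) = 1 := by omega
        rwa [e2] at this
      exact Nat.dvd_one.1 h2
  obtain ⟨q, _, hq, hmod⟩ := Nat.forall_exists_prime_gt_and_modEq 0 (q := 4 * (2 * k + 1))
    (a := 2 * (2 * k + 1) - 1) (by omega) hcop
  have : Fact q.Prime := ⟨hq⟩
  have h4 : q ≡ 2 * (2 * k + 1) - 1 [MOD 4] := hmod.of_mul_right _
  have hk : q ≡ 2 * (2 * k + 1) - 1 [MOD (2 * k + 1)] := hmod.of_mul_left _
  have hq4 : q % 4 ≠ 3 := by
    unfold Nat.ModEq at h4
    omega
  obtain ⟨a, b, hab⟩ := Nat.Prime.sq_add_sq hq4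
  refine ⟨a, b, ?_⟩
  rw [hab]
  have h5 : q + 1 ≡ 2 * (2 * k + 1) - 1 + 1 [MOD (2 * k + 1)] := hk.add_right 1
  have e3 : 2 * (2 * k + 1) - 1 + 1 = 2 * (2 * k + 1) := by omega
  rw [e3] at h5
  have h6 : 2 * (2 * k + 1) ≡ 0 [MOD (2 * k + 1)] := by
    rw [Nat.modEq_zero_iff_dvd]; exact Dvd.intro_left 2 rfl
  exact (Nat.modEq_zero_iff_dvd).1 (h5.trans h6)


section Square
variable {V : Type*} [AddCommGroup V] [Finite V]

/-- A finite abelian group of odd order on which the quaternion relations act has square order. -/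
theorem isSquare_card_of_quaternion_add (hodd : Odd (Nat.card V)) (I J : V →+ V)
    (hI : ∀ v, I (I v) = -v) (hJ : ∀ v, J (J v) = -v) (hIJ : ∀ v, J (I v) = -I (J v)) :
    IsSquare (Nat.card V) := by
  obtain ⟨a, b, hab⟩ := exists_sq_add_sq_add_one _ hodd
  obtain ⟨c, hc⟩ := hodd
  have hkill : ∀ v : V, (a ^ 2 + b ^ 2 + 1) • v = 0 := by
    intro v
    obtain ⟨d, hd⟩ := hab
    rw [hd, mul_smul, card_nsmul_eq_zero']
  have hkill2 : ∀ v : V, (2 * c + 1) • v = 0 := by
    intro v
    rw [← hc, card_nsmul_eq_zero']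
  let t : V →+ V := a • I + b • J
  have ht : ∀ v, t v = a • I v + b • J v := fun v => rfl
  have htt : ∀ v, t (t v) = v := by
    intro v
    have := hkill v
    simp only [ht, map_add, map_nsmul, hI, hJ, hIJ]
    linear_combination (norm := module) -this
  let k : V →+ V := I.comp J
  have hk : ∀ v, k v = I (J v) := fun v => rfl
  have hkt : ∀ v, t (k v) = -k (t v) := by
    intro v
    simp only [ht, hk, map_add, map_nsmul, hI, hJ, hIJ, map_neg]
    module
  have hkk : ∀ v, k (k v) = -v := by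
    intro v
    simp only [hk, hI, hJ, hIJ, map_neg]
    module
  have hkinj : Function.Injective k := by
    intro v w hvw
    have := congrArg k hvw
    rw [hkk, hkk] at this
    exact neg_injective this
  let f : V →+ V := t - AddMonoidHom.id V
  have hf : ∀ v, f v = t v - v := fun v => rfl
  have h1 : Nat.card f.ker * Nat.card f.range = Nat.card V := by
    rw [← AddSubgroup.index_ker, AddSubgroup.card_mul_index]
  have hker : ∀ v, v ∈ f.ker ↔ t v = v := by
    intro v
    rw [AddMonoidHom.mem_ker, hf, sub_eq_zero]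
  have hrange : ∀ v, v ∈ f.range ↔ t v = -v := by
    intro v
    constructor
    · rintro ⟨w, rfl⟩
      rw [hf, map_sub, htt]
      abel
    · intro hv
      refine ⟨c • v, ?_⟩
      have := hkill2 v
      rw [hf, map_nsmul, hv]
      linear_combination (norm := module) -this
  have h2 : Nat.card f.ker ≤ Nat.card f.range := by
    refine Nat.card_le_card_of_injective (fun v : f.ker => (⟨k v, ?_⟩ : f.range)) ?_
    · rw [hrange, hkt, (hker _).1 v.2]
    · intro v w hvw
      exact Subtype.ext (hkinj (congrArg Subtype.val hvw))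
  have h3 : Nat.card f.range ≤ Nat.card f.ker := by
    refine Nat.card_le_card_of_injective (fun v : f.range => (⟨k v, ?_⟩ : f.ker)) ?_
    · rw [hker, hkt, (hrange _).1 v.2, map_neg, neg_neg]
    · intro v w hvw
      exact Subtype.ext (hkinj (congrArg Subtype.val hvw))
  exact ⟨Nat.card f.ker, by rw [← h1, le_antisymm h3 h2]⟩

end Square

end Cfsg.Agent.Lib.Helper75
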