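import Mathlib
import Cfsg.Agent.S0034
import Cfsg.Agent.S0035
import Cfsg.Agent.S0039
import Cfsg.Agent.Lib.Helper75.QuatSquare

set_option autoImplicit false

namespace Cfsg.Agent.Lib.Helper75

open Subgroup

section
variable {L : Type*} [Group L] [Finite L]

/-- Frobenius' theorem packaged with the fixed-point-free action. -/
theorem frobenius_kernel_data (H : Subgroup L) (hH : Cfsg.IsFrobeniusComplement H) :
    ∃ K : Subgroup L, (K : Set L) = Cfsg.frobeniusKernel H ∧ K.Normal ∧ IsComplement' K H ∧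
      K ≠ ⊥ ∧ Nat.card K = H.index ∧
      (∀ h ∈ H, h ≠ 1 → ∀ k ∈ K, h * k = k * h → k = 1) := by
  obtain ⟨K, hK, hKn, hc⟩ := Cfsg.Agent.S0035.result H hH
  have hcard : Nat.card K = H.index := by
    rw [← (Cfsg.Agent.S0034.result H hH).1, ← hK]
    rfl
  have hKbot : K ≠ ⊥ := by
    rintro rfl
    rw [card_bot] at hcard
    exact hH.2.1 (index_eq_one.1 hcard.symm)
  refine ⟨K, hK, hKn, hc, hKbot, hcard, ?_⟩
  intro h hh h1 k hk hcomm
  have := (Cfsg.Agent.S0039.result K H hc hKbot hH.1).1 hH h hh h1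
  have hmem : k ∈ K ⊓ centralizer {h} := by
    refine mem_inf.2 ⟨hk, ?_⟩
    rw [mem_centralizer_singleton_iff]
    exact hcomm.symm
  rw [this, mem_bot] at hmem
  exact hmem

/-- multiplicative form of the square lemma (commutativity is a consequence of the hypotheses) -/
theorem isSquare_card_of_quaternion_mul {K : Type*} [Group K] [Finite K] (hodd : Odd (Nat.card K))
    (I J : K →* K) (hI : ∀ v, I (I v) = v⁻¹) (hJ : ∀ v, J (J v) = v⁻¹)
    (hIJ : ∀ v, J (I v) = (I (J v))⁻¹) : IsSquare (Nat.card K) := by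
  have hcomm : ∀ a b : K, a * b = b * a := by
    intro a b
    have h1 : (a⁻¹ * b⁻¹)⁻¹ = (a⁻¹)⁻¹ * (b⁻¹)⁻¹ := by
      rw [← hI, ← hI a⁻¹, ← hI b⁻¹, map_mul, map_mul]
    rw [mul_inv_rev, inv_inv, inv_inv] at h1
    exact h1.symm
  let _ : CommGroup K := { (inferInstance : Group K) with mul_comm := hcomm }
  exact isSquare_card_of_quaternion_add (V := Additive K) hodd (MonoidHom.toAdditive I)
    (MonoidHom.toAdditive J) (fun v => congrArg Additive.ofMul (hI v.toMul))
    (fun v => congrArg Additive.ofMul (hJ v.toMul)) (fun v => congrArg Additive.ofMul (hIJ v.toMul))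

/-- If a Frobenius complement contains a quaternion pair `i, j`, the kernel has odd square order. -/
theorem kernel_square_of_quaternion (H : Subgroup L) (hH : Cfsg.IsFrobeniusComplement H)
    (i j : L) (hi : i ∈ H) (hne : i * i ≠ 1) (h4 : (i * i) * (i * i) = 1)
    (hjj : j * j = i * i) (hij : j * i * j⁻¹ = i⁻¹) :
    Odd (Nat.card (Cfsg.frobeniusKernel H)) ∧ IsSquare (Nat.card (Cfsg.frobeniusKernel H)) := by
  obtain ⟨K, hK, hKn, -, -, -, hfpf⟩ := frobenius_kernel_data H hH
  have hcard : Nat.card (Cfsg.frobeniusKernel H) = Nat.card K := by rw [← hK]; rfl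
  rw [hcard]
  let c : L →* MulAut K := MulAut.conjNormal
  have hc : ∀ (g : L) (k : K), ((c g k : K) : L) = g * k * g⁻¹ := fun g k => rfl
  have hcc : ∀ (g g' : L) (k : K), c g (c g' k) = c (g * g') k := by
    intro g g' k
    rw [map_mul, MulAut.mul_apply]
  have hF : MonoidHom.FixedPointFree (c (i * i)).toMonoidHom := by
    intro k hk
    have h1 : (i * i) * (k : L) * (i * i)⁻¹ = k := congrArg Subtype.val hk
    have h2 : (i * i) * (k : L) = k * (i * i) := by
      conv_rhs => rw [← h1]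
      group
    exact Subtype.ext (hfpf (i * i) (H.mul_mem hi hi) hne k k.2 h2)
  have hinv : Function.Involutive (c (i * i)).toMonoidHom := by
    intro k
    change c (i * i) (c (i * i) k) = k
    rw [hcc, h4, map_one, MulAut.one_apply]
  have hz : ∀ k : K, c (i * i) k = k⁻¹ := fun k => congrFun (hF.coe_eq_inv_of_involutive hinv) k
  have hodd : Odd (Nat.card K) := hF.odd_card_of_involutive hinv
  refine ⟨hodd, ?_⟩
  refine isSquare_card_of_quaternion_mul hodd (c i).toMonoidHom (c j).toMonoidHom ?_ ?_ ?_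
  · intro k
    change c i (c i k) = k⁻¹
    rw [hcc, hz]
  · intro k
    change c j (c j k) = k⁻¹
    rw [hcc, hjj, hz]
  · intro k
    change c j (c i k) = (c i (c j k))⁻¹
    rw [← hz, hcc, hcc, hcc]
    have : j * i = i * i * i * j := by
      have h5 : j * i = i⁻¹ * j := by rw [← hij]; group
      have h6 : i⁻¹ = i * i * i := by
        rw [eq_comm, ← mul_eq_one_iff_eq_inv, ← h4]; group
      rw [h5, h6]
    rw [this]

/-- If a Frobenius complement contains a copy of a dicyclic group of order `8 M`, the kernel has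
odd square order. -/
theorem kernel_square_of_quaternion_hom (H : Subgroup L) (hH : Cfsg.IsFrobeniusComplement H)
    (N M : ℕ) (hN : N = 2 * M) (hM : 0 < M) (ψ : QuaternionGroup N →* L)
    (hψ : Function.Injective ψ) (hψH : ∀ x, ψ x ∈ H) :
    Odd (Nat.card (Cfsg.frobeniusKernel H)) ∧ IsSquare (Nat.card (Cfsg.frobeniusKernel H)) := by
  subst hN
  have e1 : QuaternionGroup.a (M : ZMod (2 * (2 * M))) * QuaternionGroup.a (M : ZMod (2 * (2 * M)))
      = QuaternionGroup.a (((2 * M : ℕ)) : ZMod (2 * (2 * M))) := by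
    rw [QuaternionGroup.a_mul_a]
    congr 1
    push_cast
    ring
  have e2 : (QuaternionGroup.xa 0 : QuaternionGroup (2 * M)) * QuaternionGroup.xa 0
      = QuaternionGroup.a (((2 * M : ℕ)) : ZMod (2 * (2 * M))) := by
    rw [QuaternionGroup.xa_mul_xa]
    congr 1
    ring
  have e3 : QuaternionGroup.a (((2 * M : ℕ)) : ZMod (2 * (2 * M))) ≠ 1 := by
    rw [QuaternionGroup.one_def]
    intro h
    have h0 : (((2 * M : ℕ)) : ZMod (2 * (2 * M))) = 0 := QuaternionGroup.a.inj h
    rw [ZMod.natCast_eq_zero_iff] at h0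
    have := Nat.le_of_dvd (by omega) h0
    omega
  have e4 : QuaternionGroup.a (((2 * M : ℕ)) : ZMod (2 * (2 * M))) *
      QuaternionGroup.a (((2 * M : ℕ)) : ZMod (2 * (2 * M))) = 1 := by
    rw [QuaternionGroup.a_mul_a, QuaternionGroup.one_def]
    congr 1
    have : (((2 * (2 * M) : ℕ)) : ZMod (2 * (2 * M))) = 0 := ZMod.natCast_self _
    rw [← this]
    push_cast
    ring
  have e5 : QuaternionGroup.a (M : ZMod (2 * (2 * M))) *
      ((QuaternionGroup.xa 0 : QuaternionGroup (2 * M)) * QuaternionGroup.a (M : ZMod (2 * (2 * M))))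
      = QuaternionGroup.xa 0 := by
    rw [QuaternionGroup.xa_mul_a, QuaternionGroup.a_mul_xa]
    congr 1
    ring
  refine kernel_square_of_quaternion H hH (ψ (QuaternionGroup.a (M : ZMod (2 * (2 * M)))))
    (ψ (QuaternionGroup.xa 0)) (hψH _) ?_ ?_ ?_ ?_
  · rw [← map_mul, e1]
    intro h
    exact e3 (hψ (h.trans (map_one ψ).symm))
  · rw [← map_mul, e1, ← map_mul, e4, map_one]
  · rw [← map_mul, ← map_mul, e1, e2]
  · rw [mul_inv_eq_iff_eq_mul, eq_inv_mul_iff_mul_eq, ← map_mul, ← map_mul, e5]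

end

end Cfsg.Agent.Lib.Helper75
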