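import Mathlib
import Cfsg.Agent.Lib.Helper75.SylowCount

set_option autoImplicit false

/-! Permutation-group tools for simple groups acting on their Sylow subgroups. -/

namespace Cfsg.Agent.Lib.Helper75

open Subgroup MulAction

section Sign
variable {S X : Type*} [Group S] [Finite S] [MulAction S X] [Finite X]

omit [Finite S] [Finite X] in
open Classical in
/-- In a simple group of order `> 2` every element acts as an even permutation. -/
theorem sign_toPerm_eq_one [IsSimpleGroup S] (hS : 2 < Nat.card S) [Fintype X] (g : S) :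
    Equiv.Perm.sign (MulAction.toPerm g : Equiv.Perm X) = 1 := by
  let φ : S →* ℤˣ := Equiv.Perm.sign.comp (MulAction.toPermHom S X)
  rcases IsSimpleGroup.eq_bot_or_eq_top_of_normal φ.ker inferInstance with h | h
  · exfalso
    have hinj : Function.Injective φ := (MonoidHom.ker_eq_bot_iff φ).1 h
    have h1 := Nat.card_le_card_of_injective φ hinj
    rw [Nat.card_eq_fintype_card (α := ℤˣ), Fintype.card_units_int] at h1
    omega
  · have : g ∈ φ.ker := by rw [h]; trivial
    exact this

omit [Finite S] in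
open Classical in
/-- An involution of a simple group of order `> 2` moves a multiple of four points. -/
theorem card_eq_fixedBy_add_four_mul [IsSimpleGroup S] (hS : 2 < Nat.card S) (g : S)
    (hg : orderOf g = 2) : ∃ k, Nat.card X = Nat.card (fixedBy X g) + 4 * k := by
  have : Fintype X := Fintype.ofFinite _
  set σ : Equiv.Perm X := MulAction.toPerm g with hσ
  have hsq : σ ^ 2 = 1 := by
    have : g ^ 2 = 1 := by rw [← hg]; exact pow_orderOf_eq_one g
    rw [hσ, ← MulAction.toPermHom_apply, ← map_pow, this, map_one]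
  have hfp := Equiv.Perm.card_fixedPoints σ
  have hf' : Nat.card (Function.fixedPoints σ) = Nat.card (fixedBy X g) := rfl
  rw [Nat.card_eq_fintype_card] at hf'
  by_cases h1 : σ = 1
  · refine ⟨0, ?_⟩
    rw [← hf', hfp, h1]
    simp [Nat.card_eq_fintype_card]
  · have ho : orderOf σ = 2 := orderOf_eq_prime hsq h1
    obtain ⟨n, hn⟩ := Equiv.Perm.cycleType_prime_order (σ := σ) (by rw [ho]; norm_num)
    rw [ho] at hn
    have hsign := sign_toPerm_eq_one (X := X) hS g
    rw [← hσ, Equiv.Perm.sign_of_cycleType, hn] at hsign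
    simp only [Multiset.sum_replicate, smul_eq_mul, Multiset.card_replicate] at hsign
    have heven : Even ((n + 1) * 2 + (n + 1)) := by
      by_contra hodd
      rw [Nat.not_even_iff_odd] at hodd
      rw [hodd.neg_one_pow] at hsign
      exact absurd hsign (by decide)
    have hle := Equiv.Perm.sum_cycleType_le σ
    rw [hn, Multiset.sum_replicate, smul_eq_mul] at hfp hle
    obtain ⟨m, hm⟩ := heven
    refine ⟨(n + 1) / 2, ?_⟩
    rw [← hf', hfp, Nat.card_eq_fintype_card]
    omega

end Sign

section Syl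
variable {S : Type*} [Group S] {p : ℕ} [Fact p.Prime]

omit [Fact p.Prime] in
theorem sylow_fixed_unique (P Q : Sylow p S) (h : ∀ x ∈ (P : Subgroup S), x • Q = Q) : Q = P := by
  have h1 : Q ∈ fixedPoints (P : Subgroup S) (Sylow p S) := fun x => h x.1 x.2
  rw [P.2.sylow_mem_fixedPoints_iff] at h1
  exact Sylow.ext (P.3 Q.2 h1)

omit [Fact p.Prime] in
theorem sylow_smul_self_of_mem (P : Sylow p S) (x : S) (hx : x ∈ (P : Subgroup S)) : x • P = P :=
  Sylow.smul_eq_iff_mem_normalizer.2 (le_normalizer hx)

variable [Finite S]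

theorem sylow_faithful_of_simple [IsSimpleGroup S] (h1 : 1 < Nat.card (Sylow p S)) (g : S)
    (hg : ∀ Q : Sylow p S, g • Q = Q) : g = 1 := by
  rcases IsSimpleGroup.eq_bot_or_eq_top_of_normal (MulAction.toPermHom S (Sylow p S)).ker
    inferInstance with h | h
  · have : g ∈ (MulAction.toPermHom S (Sylow p S)).ker := by
      rw [MonoidHom.mem_ker]
      exact Equiv.ext fun Q => hg Q
    rw [h, mem_bot] at this
    exact this
  · exfalso
    have hsub : Subsingleton (Sylow p S) := by
      refine ⟨fun P Q => ?_⟩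
      obtain ⟨x, hx⟩ := MulAction.exists_smul_eq S P Q
      have : x ∈ (MulAction.toPermHom S (Sylow p S)).ker := by rw [h]; trivial
      rw [MonoidHom.mem_ker] at this
      have h2 : x • P = P := by
        have := congrArg (fun σ : Equiv.Perm (Sylow p S) => σ P) this
        exact this
      rw [← hx, h2]
    have := Finite.card_le_one_iff_subsingleton.2 hsub
    omega

/-- in a simple group whose order is not a prime power of `p`... the number of Sylow subgroups
is not one. -/
theorem one_lt_card_sylow_of_simple [IsSimpleGroup S] (P : Sylow p S)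
    (h1 : Nat.card P ≠ 1) (h2 : Nat.card P ≠ Nat.card S) : 1 < Nat.card (Sylow p S) := by
  by_contra hcon
  have hpos : 0 < Nat.card (Sylow p S) := Nat.card_pos
  have hone : Nat.card (Sylow p S) = 1 := by omega
  have hn : (P : Subgroup S).Normal := by
    rw [card_sylow_eq_index P, index_eq_one] at hone
    exact normalizer_eq_top_iff.1 hone
  rcases IsSimpleGroup.eq_bot_or_eq_top_of_normal (P : Subgroup S) hn with h | h
  · exact h1 (by rw [h]; simp)
  · exact h2 (by rw [h]; simp)

/-- If `|P| = p`, the orbit under `P` of any other Sylow subgroup has exactly `p` elements, with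
trivial stabilisers. -/
theorem eq_one_of_mem_of_smul_eq (P Q : Sylow p S) (hP : Nat.card P = p) (hQ : Q ≠ P) (x : S)
    (hx : x ∈ (P : Subgroup S)) (hxQ : x • Q = Q) : x = 1 := by
  by_contra hne
  apply hQ
  apply sylow_fixed_unique
  intro y hy
  have hz : zpowers x = (P : Subgroup S) := by
    have hle : zpowers x ≤ (P : Subgroup S) := zpowers_le.2 hx
    apply Subgroup.eq_of_le_of_card_ge hle
    rw [hP, Nat.card_zpowers]
    have hd : orderOf x ∣ p := by
      have := orderOf_dvd_natCard (⟨x, hx⟩ : (P : Subgroup S))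
      rwa [Subgroup.orderOf_mk, hP] at this
    rcases (Nat.dvd_prime Fact.out).1 hd with h | h
    · exact absurd (orderOf_eq_one_iff.1 h) hne
    · exact h.ge
  have h3 : x ∈ stabilizer S Q := hxQ
  have h4 : zpowers x ≤ stabilizer S Q := zpowers_le.2 h3
  exact h4 (hz ▸ hy)

theorem card_orbit_eq_prime (P Q : Sylow p S) (hP : Nat.card P = p) (hQ : Q ≠ P) :
    Nat.card (orbit (P : Subgroup S) Q) = p := by
  have hstab : stabilizer (P : Subgroup S) Q = ⊥ := by
    rw [eq_bot_iff]
    intro x hx
    rw [mem_bot]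
    apply Subtype.ext
    exact eq_one_of_mem_of_smul_eq P Q hP hQ x x.2 hx
  have hidx := index_stabilizer (P : Subgroup S) Q
  rw [hstab, index_bot, hP] at hidx
  exact hidx.symm

/-- If `|P| = p` and `n_p = p + 1` then `P` is transitive on the other Sylow subgroups. -/
theorem exists_mem_smul_eq_of_card (P Q Q' : Sylow p S) (hP : Nat.card P = p)
    (hn : Nat.card (Sylow p S) = p + 1) (hQ : Q ≠ P) (hQ' : Q' ≠ P) :
    ∃ y ∈ (P : Subgroup S), y • Q = Q' := by
  by_contra hcon
  push Not at hcon
  have h1 := card_orbit_eq_prime P Q hP hQ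
  have hPn : P ∉ orbit (P : Subgroup S) Q := by
    rintro ⟨y, hy⟩
    apply hQ
    have h2 : (y : S) • Q = P := hy
    have h3 : (y : S)⁻¹ • P = P := sylow_smul_self_of_mem P _ (inv_mem y.2)
    have h4 : (y : S)⁻¹ • ((y : S) • Q) = (y : S)⁻¹ • P := congrArg _ h2
    rw [inv_smul_smul, h3] at h4
    exact h4
  have hQn : Q' ∉ orbit (P : Subgroup S) Q := by
    rintro ⟨y, hy⟩
    exact hcon y y.2 hy
  have h4 : (insert Q' (insert P (orbit (P : Subgroup S) Q))).ncard = p + 2 := by
    rw [Set.ncard_insert_of_notMem, Set.ncard_insert_of_notMem hPn]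
    · have : (orbit (P : Subgroup S) Q).ncard = p := h1
      omega
    · rw [Set.mem_insert_iff, not_or]
      exact ⟨hQ', hQn⟩
  have h5 := Set.ncard_le_card (insert Q' (insert P (orbit (P : Subgroup S) Q)))
  omega

/-- If `|P| = p`, `n_p = p + 1`, an element normalising but not centralising `P` fixes at most one
further Sylow subgroup. -/
theorem eq_of_fixed_of_not_mem_centralizer (P : Sylow p S) (hP : Nat.card P = p)
    (hn : Nat.card (Sylow p S) = p + 1) (t : S) (htP : t • P = P)
    (htC : t ∉ centralizer ((P : Subgroup S) : Set S)) (Q₁ Q₂ : Sylow p S) (h1 : Q₁ ≠ P)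
    (h2 : Q₂ ≠ P) (ht1 : t • Q₁ = Q₁) (ht2 : t • Q₂ = Q₂) : Q₁ = Q₂ := by
  obtain ⟨y, hy, hyQ⟩ := exists_mem_smul_eq_of_card P Q₁ Q₂ hP hn h1 h2
  have htN : t ∈ normalizer ((P : Subgroup S) : Set S) := Sylow.smul_eq_iff_mem_normalizer.1 htP
  have hconj : t * y * t⁻¹ ∈ (P : Subgroup S) := (mem_normalizer_iff.1 htN y).1 hy
  have hw : (y⁻¹ * (t * y * t⁻¹)) • Q₁ = Q₁ := by
    have h3 : t⁻¹ • Q₁ = Q₁ := by
      conv_lhs => rw [← ht1]
      rw [inv_smul_smul]
    rw [mul_smul, mul_smul, mul_smul, h3, hyQ, ht2, ← hyQ, inv_smul_smul]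
  have hw1 := eq_one_of_mem_of_smul_eq P Q₁ hP h1 _ (mul_mem (inv_mem hy) hconj) hw
  have hcomm : t * y = y * t := by
    have h4 : t * y * t⁻¹ = y := by
      have := congrArg (fun z => y * z) hw1
      simpa [mul_assoc] using this
    calc t * y = (t * y * t⁻¹) * t := by group
      _ = y * t := by rw [h4]
  by_cases hy1 : y = 1
  · rw [← hyQ, hy1, one_smul]
  · exfalso
    apply htC
    have hz : zpowers y = (P : Subgroup S) := by
      have hle : zpowers y ≤ (P : Subgroup S) := zpowers_le.2 hy
      apply Subgroup.eq_of_le_of_card_ge hle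
      rw [hP, Nat.card_zpowers]
      have hd : orderOf y ∣ p := by
        have := orderOf_dvd_natCard (⟨y, hy⟩ : (P : Subgroup S))
        rwa [Subgroup.orderOf_mk, hP] at this
      rcases (Nat.dvd_prime Fact.out).1 hd with h | h
      · exact absurd (orderOf_eq_one_iff.1 h) hy1
      · exact h.ge
    rw [mem_centralizer_iff]
    intro x hx
    have hx' : x ∈ zpowers y := by rw [hz]; exact hx
    obtain ⟨k, rfl⟩ := mem_zpowers_iff.1 hx'
    exact ((Commute.zpow_right (show Commute t y from hcomm) k).eq).symm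

theorem card_fixedBy_le_two (P : Sylow p S) (hP : Nat.card P = p)
    (hn : Nat.card (Sylow p S) = p + 1) (t : S) (htP : t • P = P)
    (htC : t ∉ centralizer ((P : Subgroup S) : Set S)) :
    Nat.card (fixedBy (Sylow p S) t) ≤ 2 := by
  by_contra hcon
  have h3 : 2 < (fixedBy (Sylow p S) t).ncard := by
    have : (fixedBy (Sylow p S) t).ncard = Nat.card (fixedBy (Sylow p S) t) := rfl
    omega
  obtain ⟨a, ha, b, hb, c, hc, hab, hac, hbc⟩ := (Set.two_lt_ncard (Set.toFinite _)).1 h3
  have key := eq_of_fixed_of_not_mem_centralizer P hP hn t htP htC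
  by_cases haP : a = P
  · exact hbc (key b c (fun h => hab (haP.trans h.symm)) (fun h => hac (haP.trans h.symm)) hb hc)
  · by_cases hbP : b = P
    · exact hac (key a c haP (fun h => hbc (hbP.trans h.symm)) ha hc)
    · exact hab (key a b haP hbP ha hb)

omit [Fact p.Prime] in
theorem one_le_card_fixedBy (P : Sylow p S) (t : S) (htP : t • P = P) :
    1 ≤ Nat.card (fixedBy (Sylow p S) t) := by
  have : Nonempty (fixedBy (Sylow p S) t) := ⟨⟨P, htP⟩⟩
  exact Nat.card_pos

end Syl

end Cfsg.Agent.Lib.Helper75
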