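import Mathlib
import Cfsg.Agent.Lib.Helper75.SylowPerm

set_option autoImplicit false

/-! Counting fixed points of elements in transitive actions. -/

namespace Cfsg.Agent.Lib.Helper75

open Subgroup MulAction

section General
variable {G X : Type*} [Group G] [MulAction G X]

/-- the set of `g` with `x • (g • a) = g • a` -/
def fixSet (x : G) (a : X) : Set G := {g | x • (g • a) = g • a}

theorem mem_fixSet_iff (x : G) (a : X) (g : G) :
    g ∈ fixSet x a ↔ g⁻¹ * x * g ∈ stabilizer G a := by
  rw [mem_stabilizer_iff, mul_smul, mul_smul, inv_smul_eq_iff]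
  rfl

/-- `fixSet x a` is in bijection with (fixed points of `x`) × (stabiliser of `a`). -/
noncomputable def fixSetEquivFixed [IsPretransitive G X] (x : G) (a : X) :
    fixSet x a ≃ fixedBy X x × stabilizer G a where
  toFun g := (⟨(g : G) • a, g.2⟩,
    ⟨(Classical.choose (exists_smul_eq G a ((g : G) • a)))⁻¹ * g, by
      rw [mem_stabilizer_iff, mul_smul, inv_smul_eq_iff]
      exact (Classical.choose_spec (exists_smul_eq G a ((g : G) • a))).symm⟩)
  invFun q := ⟨Classical.choose (exists_smul_eq G a (q.1 : X)) * q.2, by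
      have h1 := Classical.choose_spec (exists_smul_eq G a (q.1 : X))
      have h2 : ((q.2 : stabilizer G a) : G) • a = a := q.2.2
      have h3 : x • (q.1 : X) = q.1 := q.1.2
      change x • ((_ * _) • a) = (_ * _) • a
      rw [mul_smul, h2, h1, h3]⟩
  left_inv g := by
    apply Subtype.ext
    simp
  right_inv q := by
    have h1 := Classical.choose_spec (exists_smul_eq G a (q.1 : X))
    have h2 : ((q.2 : stabilizer G a) : G) • a = a := q.2.2
    have h4 : (Classical.choose (exists_smul_eq G a (q.1 : X)) * (q.2 : G)) • a = q.1 := by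
      rw [mul_smul, h2, h1]
    apply Prod.ext
    · apply Subtype.ext
      exact h4
    · apply Subtype.ext
      simp only
      rw [h4]
      simp

/-- `fixSet x a` is in bijection with (conjugates of `x` in the stabiliser) × (centraliser). -/
noncomputable def fixSetEquivConj (x : G) (a : X) :
    fixSet x a ≃ {y : G // IsConj x y ∧ y ∈ stabilizer G a} × centralizer ({x} : Set G) where
  toFun g := (⟨(g : G)⁻¹ * x * g, isConj_iff.2 ⟨(g : G)⁻¹, by simp⟩,
      (mem_fixSet_iff x a g).1 g.2⟩,
    ⟨g * (Classical.choose (isConj_iff.1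
      (show IsConj x ((g : G)⁻¹ * x * g) from isConj_iff.2 ⟨(g : G)⁻¹, by simp⟩))), by
      have h := Classical.choose_spec (isConj_iff.1
        (show IsConj x ((g : G)⁻¹ * x * g) from isConj_iff.2 ⟨(g : G)⁻¹, by simp⟩))
      set c := Classical.choose (isConj_iff.1
        (show IsConj x ((g : G)⁻¹ * x * g) from isConj_iff.2 ⟨(g : G)⁻¹, by simp⟩))
      rw [mem_centralizer_singleton_iff]
      have h2 : c * x = (g : G)⁻¹ * x * g * c := by
        rw [← h]; group
      calc (g : G) * c * x = g * (c * x) := by group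
        _ = g * ((g : G)⁻¹ * x * g * c) := by rw [h2]
        _ = x * (g * c) := by group⟩)
  invFun q := ⟨(q.2 : G) * (Classical.choose (isConj_iff.1 q.1.2.1))⁻¹, by
      have h := Classical.choose_spec (isConj_iff.1 q.1.2.1)
      set c := Classical.choose (isConj_iff.1 q.1.2.1)
      rw [mem_fixSet_iff]
      have hq : (q.2 : G) * x = x * q.2 := mem_centralizer_singleton_iff.1 q.2.2
      have h3 : ((q.2 : G) * c⁻¹)⁻¹ * x * ((q.2 : G) * c⁻¹) = q.1 := by
        rw [← h]
        calc ((q.2 : G) * c⁻¹)⁻¹ * x * ((q.2 : G) * c⁻¹)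
            = c * (q.2 : G)⁻¹ * (x * (q.2 : G)) * c⁻¹ := by group
          _ = c * (q.2 : G)⁻¹ * ((q.2 : G) * x) * c⁻¹ := by rw [hq]
          _ = c * x * c⁻¹ := by group
      rw [h3]
      exact q.1.2.2⟩
  left_inv g := by
    apply Subtype.ext
    simp
  right_inv q := by
    have h := Classical.choose_spec (isConj_iff.1 q.1.2.1)
    have hq : (q.2 : G) * x = x * q.2 := mem_centralizer_singleton_iff.1 q.2.2
    have h3 : ((q.2 : G) * (Classical.choose (isConj_iff.1 q.1.2.1))⁻¹)⁻¹ * x *
        ((q.2 : G) * (Classical.choose (isConj_iff.1 q.1.2.1))⁻¹) = q.1 := by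
      set c := Classical.choose (isConj_iff.1 q.1.2.1)
      rw [← h]
      calc ((q.2 : G) * c⁻¹)⁻¹ * x * ((q.2 : G) * c⁻¹)
          = c * (q.2 : G)⁻¹ * (x * (q.2 : G)) * c⁻¹ := by group
        _ = c * (q.2 : G)⁻¹ * ((q.2 : G) * x) * c⁻¹ := by rw [hq]
        _ = c * x * c⁻¹ := by group
    apply Prod.ext
    · apply Subtype.ext
      exact h3
    · apply Subtype.ext
      simp only
      have key : ∀ (y : G) (hy : IsConj x y), y = q.1 →
          (q.2 : G) * (Classical.choose (isConj_iff.1 q.1.2.1))⁻¹ *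
            Classical.choose (isConj_iff.1 hy) = q.2 := by
        intro y hy hyq
        subst hyq
        simp
      exact key _ (by rw [h3]; exact q.1.2.1) h3

/-- **Fixed point formula**: `fix(x) * |G_a| = |x^G ∩ G_a| * |C_G(x)|`. -/
theorem card_fixedBy_mul_card_stabilizer [IsPretransitive G X] (x : G) (a : X) :
    Nat.card (fixedBy X x) * Nat.card (stabilizer G a) =
      Nat.card {y : G // IsConj x y ∧ y ∈ stabilizer G a} *
        Nat.card (centralizer ({x} : Set G)) := by
  rw [← Nat.card_prod, ← Nat.card_prod]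
  exact Nat.card_congr ((fixSetEquivFixed x a).symm.trans (fixSetEquivConj x a))

end General

section Mod
variable {G X : Type*} [Group G] [MulAction G X] [Finite X]

/-- an element of prime order `r`: `|X| ≡ fix(g) (mod r)`. -/
theorem card_modEq_card_fixedBy (g : G) (r : ℕ) [Fact r.Prime] (hg : orderOf g = r) :
    Nat.card X ≡ Nat.card (fixedBy X g) [MOD r] := by
  have hp : IsPGroup r (zpowers g) := IsPGroup.of_card (n := 1) (by rw [Nat.card_zpowers, hg, pow_one])
  have h1 := hp.card_modEq_card_fixedPoints X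
  have h2 : fixedPoints (zpowers g) X = fixedBy X g := by
    ext Q
    constructor
    · intro h
      exact h ⟨g, mem_zpowers g⟩
    · intro h x
      have h3 : g ∈ stabilizer G Q := h
      have h4 : zpowers g ≤ stabilizer G Q := (zpowers_le).2 h3
      exact h4 x.2
  rw [h2] at h1
  exact h1

end Mod

section Syl
variable {G : Type*} [Group G] [Finite G] {p : ℕ} [Fact p.Prime]

/-- fixed point formula on the set of Sylow subgroups -/
theorem card_fixedBy_sylow_mul (P : Sylow p G) (x : G) :
    Nat.card (fixedBy (Sylow p G) x) * Nat.card (normalizer ((P : Subgroup G) : Set G)) =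
      Nat.card {y : G // IsConj x y ∧ y ∈ normalizer ((P : Subgroup G) : Set G)} *
        Nat.card (centralizer ({x} : Set G)) := by
  have := card_fixedBy_mul_card_stabilizer (X := Sylow p G) x P
  rwa [Sylow.stabilizer_eq_normalizer] at this

/-- an element centralising `P` fixes `≡ 1 (mod p)` Sylow `p`-subgroups -/
theorem card_fixedBy_sylow_modEq_one (P : Sylow p G) (g : G)
    (hg : g ∈ centralizer ((P : Subgroup G) : Set G)) :
    Nat.card (fixedBy (Sylow p G) g) ≡ 1 [MOD p] := by
  let F : SubMulAction (P : Subgroup G) (Sylow p G) :=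
    { carrier := fixedBy (Sylow p G) g
      smul_mem' := by
        intro x Q hQ
        have hQ' : g • Q = Q := hQ
        change g • ((x : G) • Q) = (x : G) • Q
        have hcomm : g * (x : G) = (x : G) * g := ((mem_centralizer_iff.1 hg) x x.2).symm
        rw [← mul_smul, hcomm, mul_smul, hQ'] }
  have h1 : Nat.card F ≡ Nat.card (fixedPoints (P : Subgroup G) F) [MOD p] :=
    P.2.card_modEq_card_fixedPoints F
  have h2 : Nat.card (fixedPoints (P : Subgroup G) F) = 1 := by
    rw [Nat.card_eq_one_iff_unique]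
    refine ⟨⟨?_⟩, ⟨⟨⟨P, ?_⟩, ?_⟩⟩⟩
    · rintro ⟨⟨Q, hQ⟩, hfix⟩ ⟨⟨Q', hQ'⟩, hfix'⟩
      have e1 : Q = P := sylow_fixed_unique P Q fun x hx =>
        congrArg (fun z : F => (z : Sylow p G)) (hfix ⟨x, hx⟩)
      have e2 : Q' = P := sylow_fixed_unique P Q' fun x hx =>
        congrArg (fun z : F => (z : Sylow p G)) (hfix' ⟨x, hx⟩)
      subst e1 e2
      rfl
    · exact Sylow.smul_eq_iff_mem_normalizer.2 (centralizer_le_normalizer _ hg)
    · intro x
      apply Subtype.ext
      exact sylow_smul_self_of_mem P x x.2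
  rw [h2] at h1
  exact h1

theorem zpowers_eq_of_mem_of_ne_one (P : Sylow p G) (hP : Nat.card P = p) (y : G)
    (hy : y ∈ (P : Subgroup G)) (hy1 : y ≠ 1) : zpowers y = (P : Subgroup G) := by
  have hle : zpowers y ≤ (P : Subgroup G) := zpowers_le.2 hy
  apply Subgroup.eq_of_le_of_card_ge hle
  rw [hP, Nat.card_zpowers]
  have hd : orderOf y ∣ p := by
    have := orderOf_dvd_natCard (⟨y, hy⟩ : (P : Subgroup G))
    rwa [Subgroup.orderOf_mk, hP] at this
  rcases (Nat.dvd_prime Fact.out).1 hd with h | h
  · exact absurd (orderOf_eq_one_iff.1 h) hy1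
  · exact h.ge

theorem mem_centralizer_of_commute_gen (P : Sylow p G) (hP : Nat.card P = p) (y : G)
    (hy : y ∈ (P : Subgroup G)) (hy1 : y ≠ 1) (t : G) (hcomm : t * y = y * t) :
    t ∈ centralizer ((P : Subgroup G) : Set G) := by
  have hz := zpowers_eq_of_mem_of_ne_one P hP y hy hy1
  rw [mem_centralizer_iff]
  intro x hx
  have hx' : x ∈ zpowers y := by rw [hz]; exact hx
  obtain ⟨k, rfl⟩ := mem_zpowers_iff.1 hx'
  exact ((Commute.zpow_right (show Commute t y from hcomm) k).eq).symm

/-- `|P| = p`, `t ∈ N(P) \ C(P)`: `t` fixes at most one point in each `P`-orbit. -/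
theorem eq_one_of_fixed_smul (P : Sylow p G) (hP : Nat.card P = p) (t : G) (htP : t • P = P)
    (htC : t ∉ centralizer ((P : Subgroup G) : Set G)) (Q : Sylow p G) (hQ : Q ≠ P) (y : G)
    (hy : y ∈ (P : Subgroup G)) (ht1 : t • Q = Q) (ht2 : t • (y • Q) = y • Q) : y = 1 := by
  have htN : t ∈ normalizer ((P : Subgroup G) : Set G) := Sylow.smul_eq_iff_mem_normalizer.1 htP
  have hconj : t * y * t⁻¹ ∈ (P : Subgroup G) := (mem_normalizer_iff.1 htN y).1 hy
  have hw : (y⁻¹ * (t * y * t⁻¹)) • Q = Q := by
    have h3 : t⁻¹ • Q = Q := by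
      conv_lhs => rw [← ht1]
      rw [inv_smul_smul]
    rw [mul_smul, mul_smul, mul_smul, h3, ht2, inv_smul_smul]
  have hw1 := eq_one_of_mem_of_smul_eq P Q hP hQ _ (mul_mem (inv_mem hy) hconj) hw
  have hcomm : t * y = y * t := by
    have h4 : t * y * t⁻¹ = y := by
      have := congrArg (fun z => y * z) hw1
      simpa [mul_assoc] using this
    calc t * y = (t * y * t⁻¹) * t := by group
      _ = y * t := by rw [h4]
  by_contra hy1
  exact htC (mem_centralizer_of_commute_gen P hP y hy hy1 t hcomm)

/-- `|P| = p`, `t ∈ N(P) \ C(P)`: `(fix(t) - 1) * p ≤ n_p - 1`. -/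
theorem card_fixedBy_mul_le (P : Sylow p G) (hP : Nat.card P = p) (t : G) (htP : t • P = P)
    (htC : t ∉ centralizer ((P : Subgroup G) : Set G)) :
    Nat.card (fixedBy (Sylow p G) t) * p + 1 ≤ Nat.card (Sylow p G) + p := by
  classical
  let F' := {Q : Sylow p G // t • Q = Q ∧ Q ≠ P}
  let Y := {Q : Sylow p G // Q ≠ P}
  let φ : F' × (P : Subgroup G) → Y := fun q => ⟨(q.2 : G) • q.1.1, by
    intro h
    apply q.1.2.2
    have h3 : (q.2 : G)⁻¹ • P = P := sylow_smul_self_of_mem P _ (inv_mem q.2.2)
    have h4 : (q.2 : G)⁻¹ • ((q.2 : G) • q.1.1) = (q.2 : G)⁻¹ • P := congrArg _ h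
    rw [inv_smul_smul, h3] at h4
    exact h4⟩
  have hinj : Function.Injective φ := by
    rintro ⟨⟨Q, hQ1, hQ2⟩, y⟩ ⟨⟨Q', hQ1', hQ2'⟩, y'⟩ h
    have h1 : (y : G) • Q = (y' : G) • Q' := congrArg Subtype.val h
    have h2 : Q' = ((y' : G)⁻¹ * y) • Q := by rw [mul_smul, h1, inv_smul_smul]
    have h3 : (y' : G)⁻¹ * y = 1 :=
      eq_one_of_fixed_smul P hP t htP htC Q hQ2 _ (mul_mem (inv_mem y'.2) y.2) hQ1 (h2 ▸ hQ1')
    have h4 : Q' = Q := by rw [h2, h3, one_smul]
    have h5 : y = y' := by
      apply Subtype.ext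
      rw [inv_mul_eq_one] at h3
      exact h3.symm
    subst h4 h5
    rfl
  have hle := Nat.card_le_card_of_injective φ hinj
  rw [Nat.card_prod, hP] at hle
  have hY : Nat.card Y + 1 = Nat.card (Sylow p G) := by
    have e : Option Y ≃ Sylow p G :=
      { toFun := fun o => o.elim P Subtype.val
        invFun := fun Q => if h : Q = P then none else some ⟨Q, h⟩
        left_inv := by
          intro o
          cases o with
          | none => simp
          | some y => simp [y.2]
        right_inv := by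
          intro Q
          by_cases h : Q = P
          · simp [h]
          · simp [h] }
    rw [← Nat.card_congr e, Finite.card_option]
  have hF : Nat.card (fixedBy (Sylow p G) t) ≤ Nat.card F' + 1 := by
    have e : fixedBy (Sylow p G) t ↪ Option F' :=
      ⟨fun Q => if h : (Q : Sylow p G) = P then none else some ⟨Q, Q.2, h⟩, by
        intro Q Q' h
        by_cases h1 : (Q : Sylow p G) = P <;> by_cases h2 : (Q' : Sylow p G) = P
        · exact Subtype.ext (h1.trans h2.symm)
        · simp [h1, h2] at h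
        · simp [h1, h2] at h
        · simp only [h1, h2, dite_false, Option.some.injEq] at h
          exact Subtype.ext (congrArg (fun z : F' => (z.1 : Sylow p G)) h)⟩
    have := Nat.card_le_card_of_injective e e.injective
    rwa [Finite.card_option] at this
  nlinarith

end Syl

end Cfsg.Agent.Lib.Helper75
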