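import Mathlib
import Cfsg.Agent.Lib.Helper75.SylowCount

set_option autoImplicit false

/-! index bounds for simple groups; Sylow cardinalities. -/

namespace Cfsg.Agent.Lib.Helper75

open Subgroup MulAction

variable {G : Type*} [Group G] [Finite G]

/-- The order of a simple group divides `n!` for every proper subgroup of index `n`. -/
theorem card_dvd_factorial_index_of_simple [IsSimpleGroup G] (H : Subgroup G) (hH : H ≠ ⊤) :
    Nat.card G ∣ (H.index).factorial := by
  rcases IsSimpleGroup.eq_bot_or_eq_top_of_normal (MulAction.toPermHom G (G ⧸ H)).ker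
    inferInstance with h | h
  · have hinj : Function.Injective (MulAction.toPermHom G (G ⧸ H)) :=
      (MonoidHom.ker_eq_bot_iff _).1 h
    have := Subgroup.card_dvd_of_injective _ hinj
    rwa [Nat.card_perm] at this
  · exfalso
    rw [← normalCore_eq_ker] at h
    exact hH (top_le_iff.1 (h ▸ normalCore_le H))

theorem card_dvd_factorial_of_simple [IsSimpleGroup G] (H : Subgroup G) (hH : H ≠ ⊤) (n : ℕ)
    (hn : H.index ≤ n) : Nat.card G ∣ n.factorial :=
  (card_dvd_factorial_index_of_simple H hH).trans (Nat.factorial_dvd_factorial hn)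

/-- the order of a Sylow subgroup from a factorisation of the group order -/
theorem card_sylow_eq_pow {p : ℕ} [Fact p.Prime] (P : Sylow p G) (k m : ℕ)
    (h : Nat.card G = p ^ k * m) (hm : ¬ p ∣ m) : Nat.card P = p ^ k := by
  rw [P.card_eq_multiplicity, h]
  have hp : p.Prime := Fact.out
  have hm0 : m ≠ 0 := by rintro rfl; exact hm (dvd_zero _)
  rw [Nat.factorization_mul (pow_ne_zero _ hp.ne_zero) hm0]
  simp [hp.factorization_self, Nat.factorization_eq_zero_of_not_dvd hm]

end Cfsg.Agent.Lib.Helper75
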