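import Mathlib
import Cfsg.Agent.Lib.Helper75.FixCount
import Cfsg.Agent.Lib.Helper75.SimpleIndex
import Cfsg.Agent.S1003

set_option autoImplicit false

/-! More fixed-point counting tools (a small engine for "no simple group of order n"). -/

namespace Cfsg.Agent.Lib.Helper75

open Subgroup MulAction

section Mod
variable {G X : Type*} [Group G] [MulAction G X]

theorem fixedPoints_zpowers_eq (g : G) : fixedPoints (zpowers g) X = fixedBy X g := by
  ext Q
  constructor
  · intro h
    exact h ⟨g, mem_zpowers g⟩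
  · intro h x
    have h3 : g ∈ stabilizer G Q := h
    have h4 : zpowers g ≤ stabilizer G Q := (zpowers_le).2 h3
    exact h4 x.2

theorem card_fixedBy_conj (g c : G) :
    Nat.card (fixedBy X (c * g * c⁻¹)) = Nat.card (fixedBy X g) := by
  symm
  refine Nat.card_congr
    { toFun := fun x => ⟨c • x.1, ?_⟩
      invFun := fun x => ⟨c⁻¹ • x.1, ?_⟩
      left_inv := fun x => Subtype.ext (inv_smul_smul c x.1)
      right_inv := fun x => Subtype.ext (smul_inv_smul c x.1) }
  · have hx : g • x.1 = x.1 := x.2
    change (c * g * c⁻¹) • (c • x.1) = c • x.1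
    rw [mul_smul, mul_smul, inv_smul_smul, hx]
  · have hx : (c * g * c⁻¹) • x.1 = x.1 := x.2
    change g • (c⁻¹ • x.1) = c⁻¹ • x.1
    conv_rhs => rw [← hx]
    rw [mul_smul, mul_smul, inv_smul_smul]

theorem card_fixedBy_of_isConj {g h : G} (hc : IsConj g h) :
    Nat.card (fixedBy X h) = Nat.card (fixedBy X g) := by
  obtain ⟨c, hc⟩ := isConj_iff.1 hc
  rw [← hc, card_fixedBy_conj]

variable [Finite X]

/-- an element of prime power order: `|X| ≡ fix(g) (mod r)`. -/
theorem card_modEq_card_fixedBy_of_isPGroup (g : G) (r : ℕ) [Fact r.Prime]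
    (hg : IsPGroup r (zpowers g)) : Nat.card X ≡ Nat.card (fixedBy X g) [MOD r] := by
  have h1 := hg.card_modEq_card_fixedPoints X
  rwa [fixedPoints_zpowers_eq] at h1

/-- commuting elements: `fix(g) ≡ |Fix(g) ∩ Fix(h)| (mod r)` if `h` is an `r`-element. -/
theorem card_fixedBy_modEq_inter (g h : G) (hc : Commute g h) (r : ℕ) [Fact r.Prime]
    (hh : IsPGroup r (zpowers h)) :
    Nat.card (fixedBy X g) ≡ Nat.card {x : X // g • x = x ∧ h • x = x} [MOD r] := by
  let F : SubMulAction (zpowers h) X :=
    { carrier := fixedBy X g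
      smul_mem' := by
        intro x Q hQ
        have hQ' : g • Q = Q := hQ
        change g • ((x : G) • Q) = (x : G) • Q
        obtain ⟨k, hk⟩ := mem_zpowers_iff.1 x.2
        have hcomm : g * (x : G) = (x : G) * g := by
          rw [← hk]; exact (hc.zpow_right k).eq
        rw [← mul_smul, hcomm, mul_smul, hQ'] }
  have h1 : Nat.card F ≡ Nat.card (fixedPoints (zpowers h) F) [MOD r] :=
    hh.card_modEq_card_fixedPoints F
  have h2 : Nat.card (fixedPoints (zpowers h) F) = Nat.card {x : X // g • x = x ∧ h • x = x} := by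
    refine Nat.card_congr
      { toFun := fun x => ⟨x.1.1, x.1.2, congrArg (fun z : F => (z : X)) (x.2 ⟨h, mem_zpowers h⟩)⟩
        invFun := fun x => ⟨⟨x.1, x.2.1⟩, ?_⟩
        left_inv := fun x => rfl
        right_inv := fun x => rfl }
    intro y
    apply Subtype.ext
    have h3 : h ∈ stabilizer G x.1 := x.2.2
    exact (zpowers_le.2 h3) y.2
  rw [h2] at h1
  exact h1

/-- a nontrivial action of a simple group is faithful -/
theorem card_fixedBy_lt_of_simple [IsSimpleGroup G] (hnt : ∃ (g : G) (x : X), g • x ≠ x) (g : G)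
    (hg : g ≠ 1) : Nat.card (fixedBy X g) < Nat.card X := by
  rcases IsSimpleGroup.eq_bot_or_eq_top_of_normal (MulAction.toPermHom G X).ker
    inferInstance with h | h
  · have hne : ∃ x : X, g • x ≠ x := by
      by_contra hcon
      push Not at hcon
      apply hg
      have : g ∈ (MulAction.toPermHom G X).ker := by
        rw [MonoidHom.mem_ker]
        ext x
        exact hcon x
      rwa [h, mem_bot] at this
    obtain ⟨x, hx⟩ := hne
    rw [Nat.card_coe_set_eq, ← Set.ncard_univ]
    apply Set.ncard_lt_ncard _ (Set.toFinite _)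
    rw [Set.ssubset_univ_iff]
    intro h2
    apply hx
    have : x ∈ fixedBy X g := by rw [h2]; trivial
    exact this
  · exfalso
    obtain ⟨g', x, hx⟩ := hnt
    apply hx
    have : g' ∈ (MulAction.toPermHom G X).ker := by rw [h]; trivial
    rw [MonoidHom.mem_ker] at this
    exact congrArg (fun σ : Equiv.Perm X => σ x) this

open Classical in
/-- Orbit counting: if all nonidentity elements of `A` have exactly `c` fixed points then
`|A| ∣ |X| + (|A| - 1) c`. -/
theorem card_dvd_of_fixedBy_eq [Finite G] (A : Subgroup G) (c : ℕ)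
    (h : ∀ g ∈ A, g ≠ 1 → Nat.card (fixedBy X g) = c) :
    Nat.card A ∣ Nat.card X + (Nat.card A - 1) * c := by
  have : Fintype X := Fintype.ofFinite _
  have : Fintype A := Fintype.ofFinite _
  have key := MulAction.sum_card_fixedBy_eq_card_orbits_mul_card_group A X
  have h1 : ∑ g : A, Fintype.card (fixedBy X g) = Nat.card X + (Nat.card A - 1) * c := by
    rw [← Finset.add_sum_erase Finset.univ _ (Finset.mem_univ (1 : A))]
    congr 1
    · rw [← Nat.card_eq_fintype_card]
      have : fixedBy X (1 : A) = Set.univ := fixedBy_one_eq_univ X A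
      rw [this, Nat.card_coe_set_eq, Set.ncard_univ]
    · rw [Finset.sum_congr rfl (g := fun _ => c)]
      · rw [Finset.sum_const, Finset.card_erase_of_mem (Finset.mem_univ _), Finset.card_univ,
          Nat.card_eq_fintype_card, smul_eq_mul]
      · intro g hg
        rw [← Nat.card_eq_fintype_card]
        have hg1 : (g : G) ≠ 1 := by
          intro h1
          exact (Finset.mem_erase.1 hg).1 (Subtype.ext h1)
        exact h g g.2 hg1
  rw [← h1, key, Nat.card_eq_fintype_card]
  exact Dvd.intro_left _ rfl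

end Mod

section Inv
variable {G : Type*} [Group G] [Finite G]

/-- `P` abelian of odd order: `#{y ∈ C(P) : y² = 1} * |P| ≤ |C(P)|`. -/
theorem card_sq_eq_one_mul_card_le (P : Subgroup G) (hodd : Odd (Nat.card P))
    (hcomm : P ≤ centralizer (P : Set G)) :
    Nat.card {y : G // y ∈ centralizer (P : Set G) ∧ y ^ 2 = 1} * Nat.card P ≤
      Nat.card (centralizer (P : Set G)) := by
  rw [← Nat.card_prod]
  apply Nat.card_le_card_of_injective
    (fun q : {y : G // y ∈ centralizer (P : Set G) ∧ y ^ 2 = 1} × P =>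
      (⟨q.1.1 * q.2.1, mul_mem q.1.2.1 (hcomm q.2.2)⟩ : centralizer (P : Set G)))
  rintro ⟨⟨y, hyC, hy2⟩, ⟨z, hz⟩⟩ ⟨⟨y', hyC', hy2'⟩, ⟨z', hz'⟩⟩ h
  have h1 : y * z = y' * z' := congrArg Subtype.val h
  have c1 : Commute y z := ((mem_centralizer_iff.1 hyC) z hz).symm
  have c2 : Commute y' z' := ((mem_centralizer_iff.1 hyC') z' hz').symm
  have c3 : Commute z z' := ((mem_centralizer_iff.1 (hcomm hz)) z' hz').symm
  have h2 : z ^ 2 = z' ^ 2 := by
    have e1 : (y * z) ^ 2 = z ^ 2 := by rw [c1.mul_pow, hy2, one_mul]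
    have e2 : (y' * z') ^ 2 = z' ^ 2 := by rw [c2.mul_pow, hy2', one_mul]
    rw [← e1, ← e2, h1]
  have h3 : (z * z'⁻¹) ^ 2 = 1 := by
    rw [(c3.inv_right).mul_pow, h2, inv_pow, mul_inv_cancel]
  have h4 : z * z'⁻¹ = 1 := by
    have hmem : z * z'⁻¹ ∈ P := mul_mem hz (inv_mem hz')
    have d1 : orderOf (z * z'⁻¹) ∣ 2 := orderOf_dvd_of_pow_eq_one h3
    have d2 : orderOf (z * z'⁻¹) ∣ Nat.card P := by
      have := orderOf_dvd_natCard (⟨z * z'⁻¹, hmem⟩ : P)
      rwa [Subgroup.orderOf_mk] at this
    have d3 : orderOf (z * z'⁻¹) ∣ 1 := by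
      have hcop : Nat.Coprime 2 (Nat.card P) := (Nat.coprime_two_left).2 hodd
      rw [← hcop]
      exact Nat.dvd_gcd d1 d2
    exact orderOf_eq_one_iff.1 (Nat.dvd_one.1 d3)
  have h5 : z = z' := mul_inv_eq_one.1 h4
  subst h5
  have h6 : y = y' := mul_right_cancel h1
  subst h6
  rfl

variable {p : ℕ} [Fact p.Prime]

omit [Finite G] in
theorem le_centralizer_of_card_eq_prime (P : Sylow p G) (hP : Nat.card P = p) :
    (P : Subgroup G) ≤ centralizer ((P : Subgroup G) : Set G) := by
  have hcyc : IsCyclic (P : Subgroup G) := isCyclic_of_prime_card hP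
  have := hcyc.isMulCommutative
  intro x hx
  rw [mem_centralizer_iff]
  intro y hy
  exact congrArg Subtype.val (this.is_comm.comm ⟨y, hy⟩ ⟨x, hx⟩)

/-- If the involution `a` has too many fixed Sylow subgroups for an element of `N(P) \ C(P)`, all
its conjugates in `N(P)` lie in `C(P)`; hence `(k + 1) p ≤ |C(P)|`. -/
theorem card_conj_normalizer_le (P : Sylow p G) (hP : Nat.card P = p) (hp2 : p ≠ 2) (a : G)
    (ha : orderOf a = 2)
    (hf : Nat.card (Sylow p G) + p < Nat.card (fixedBy (Sylow p G) a) * p + 1) :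
    (Nat.card {y : G // IsConj a y ∧ y ∈ normalizer ((P : Subgroup G) : Set G)} + 1) * p ≤
      Nat.card (centralizer ((P : Subgroup G) : Set G)) := by
  have hodd : Odd (Nat.card (P : Subgroup G)) := by
    rw [hP]; exact (Fact.out : p.Prime).odd_of_ne_two hp2
  have h1 := card_sq_eq_one_mul_card_le (P : Subgroup G) hodd (le_centralizer_of_card_eq_prime P hP)
  rw [hP] at h1
  refine le_trans (Nat.mul_le_mul_right p ?_) h1
  rw [← Finite.card_option]
  apply Nat.card_le_card_of_injective
    (fun o : Option {y : G // IsConj a y ∧ y ∈ normalizer ((P : Subgroup G) : Set G)} =>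
      (o.elim ⟨1, one_mem _, one_pow 2⟩ (fun y => ⟨y.1, by
        by_contra hC
        have h2 := card_fixedBy_mul_le P hP y.1 (Sylow.smul_eq_iff_mem_normalizer.2 y.2.2) hC
        rw [card_fixedBy_of_isConj y.2.1] at h2
        omega, by
        obtain ⟨c, hc⟩ := isConj_iff.1 y.2.1
        rw [← hc, conj_pow, ← ha, pow_orderOf_eq_one]
        simp⟩) : {y : G // y ∈ centralizer ((P : Subgroup G) : Set G) ∧ y ^ 2 = 1}))
  have hne : ∀ y : {y : G // IsConj a y ∧ y ∈ normalizer ((P : Subgroup G) : Set G)},
      y.1 ≠ 1 := by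
    intro y h1
    have := y.2.1
    rw [h1, isConj_one_left] at this
    rw [this, orderOf_one] at ha
    omega
  intro o o' h
  cases o with
  | none =>
    cases o' with
    | none => rfl
    | some y' => exact absurd (congrArg Subtype.val h).symm (hne y')
  | some y =>
    cases o' with
    | none => exact absurd (congrArg Subtype.val h) (hne y)
    | some y' =>
      have h2 : y.1 = y'.1 := congrArg
        (fun z : {y : G // y ∈ centralizer ((P : Subgroup G) : Set G) ∧ y ^ 2 = 1} => z.1) h
      exact congrArg some (Subtype.ext h2)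

end Inv

section Setup
variable {G : Type*} [Group G] [Finite G] [IsSimpleGroup G] {p : ℕ} [Fact p.Prime]

/-- All the standard numerical data for a Sylow subgroup of prime order in a simple group. -/
theorem sylow_setup (m : ℕ) (hG : Nat.card G = p * m) (hpm : ¬ p ∣ m) (hm : 1 < m)
    (P : Sylow p G) :
    Nat.card P = p ∧ Nat.card (Sylow p G) ∣ m ∧ Nat.card (Sylow p G) ≡ 1 [MOD p] ∧
    1 < Nat.card (Sylow p G) ∧
    Nat.card (normalizer ((P : Subgroup G) : Set G)) * Nat.card (Sylow p G) = Nat.card G ∧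
    Nat.card G ∣ (Nat.card (Sylow p G)).factorial ∧
    ∃ r, Nat.card (centralizer ((P : Subgroup G) : Set G)) * r =
      Nat.card (normalizer ((P : Subgroup G) : Set G)) ∧ r ∣ p - 1 ∧ r ≠ 1 ∧
      p ∣ Nat.card (centralizer ((P : Subgroup G) : Set G)) := by
  have hp : p.Prime := Fact.out
  have hP : Nat.card P = p := by
    have := card_sylow_eq_pow P 1 m (by rw [pow_one]; exact hG) hpm
    rwa [pow_one] at this
  have hidx : (P : Subgroup G).index = m := by
    have := (P : Subgroup G).card_mul_index
    rw [hP, hG] at this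
    exact Nat.eq_of_mul_eq_mul_left hp.pos this
  have h1 : 1 < Nat.card (Sylow p G) :=
    one_lt_card_sylow_of_simple P (by rw [hP]; exact hp.one_lt.ne') (by
      rw [hP, hG]
      intro h
      have : p * 1 = p * m := by rw [mul_one]; exact h
      have := Nat.eq_of_mul_eq_mul_left hp.pos this
      omega)
  have hNtop : normalizer ((P : Subgroup G) : Set G) ≠ ⊤ := by
    intro h2
    rw [card_sylow_eq_index P, h2, index_top] at h1
    omega
  refine ⟨hP, hidx ▸ P.card_dvd_index, card_sylow_modEq_one p G, h1, ?_, ?_, ?_⟩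
  · rw [card_sylow_eq_index P]
    exact (normalizer ((P : Subgroup G) : Set G)).card_mul_index
  · rw [card_sylow_eq_index P]
    exact card_dvd_factorial_index_of_simple _ hNtop
  · apply Cfsg.Agent.S1003.automizer_data P hP
    rw [hG]
    intro h
    have : p * m = p * 1 := by rw [mul_one]; exact h
    have := Nat.eq_of_mul_eq_mul_left hp.pos this
    omega

omit [IsSimpleGroup G] in
theorem sylow_action_nontrivial (h1 : 1 < Nat.card (Sylow p G)) :
    ∃ (g : G) (x : Sylow p G), g • x ≠ x := by
  by_contra hcon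
  push Not at hcon
  have : Subsingleton (Sylow p G) := by
    constructor
    intro Q Q'
    obtain ⟨g, hg⟩ := MulAction.exists_smul_eq G Q Q'
    rw [← hg, hcon]
  have := Finite.card_le_one_iff_subsingleton.2 this
  omega

omit [Finite G] [IsSimpleGroup G] in
theorem quotient_action_nontrivial (H : Subgroup G) (hH : H ≠ ⊤) :
    ∃ (g : G) (x : G ⧸ H), g • x ≠ x := by
  by_contra hcon
  push Not at hcon
  apply hH
  rw [eq_top_iff]
  intro g _
  have := hcon g ((1 : G) : G ⧸ H)
  have h2 : ((g * 1 : G) : G ⧸ H) = ((1 : G) : G ⧸ H) := this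
  rw [mul_one, QuotientGroup.eq] at h2
  simpa using h2

/-- data for an element `a` of prime order `r` centralising `P`, acting on `Syl_p(G)` -/
theorem centralizer_element_data (P : Sylow p G) (h1 : 1 < Nat.card (Sylow p G)) (r : ℕ)
    [Fact r.Prime] (hr : r ∣ Nat.card (centralizer ((P : Subgroup G) : Set G))) :
    ∃ a : G, orderOf a = r ∧ a ∈ centralizer ((P : Subgroup G) : Set G) ∧
      Nat.card (fixedBy (Sylow p G) a) ≡ 1 [MOD p] ∧
      Nat.card (Sylow p G) ≡ Nat.card (fixedBy (Sylow p G) a) [MOD r] ∧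
      Nat.card (fixedBy (Sylow p G) a) < Nat.card (Sylow p G) ∧
      Nat.card (fixedBy (Sylow p G) a) * Nat.card (normalizer ((P : Subgroup G) : Set G)) =
        Nat.card {y : G // IsConj a y ∧ y ∈ normalizer ((P : Subgroup G) : Set G)} *
          Nat.card (centralizer ({a} : Set G)) ∧
      Nat.card (centralizer ({a} : Set G)) ∣ Nat.card G ∧
      Nat.card P ∣ Nat.card (centralizer ({a} : Set G)) := by
  obtain ⟨x, hx⟩ := exists_prime_orderOf_dvd_card'
    (G := centralizer ((P : Subgroup G) : Set G)) r hr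
  have hx' : orderOf (x : G) = r := by rw [Subgroup.orderOf_coe, hx]
  have hx1 : (x : G) ≠ 1 := by
    intro h
    rw [h, orderOf_one] at hx'
    exact (Fact.out : r.Prime).one_lt.ne hx'
  refine ⟨x, hx', x.2, card_fixedBy_sylow_modEq_one P x x.2, card_modEq_card_fixedBy _ r hx',
    card_fixedBy_lt_of_simple (sylow_action_nontrivial h1) _ hx1, card_fixedBy_sylow_mul P x,
    card_subgroup_dvd_card _, ?_⟩
  apply card_dvd_of_le
  intro y hy
  rw [mem_centralizer_singleton_iff]
  exact ((mem_centralizer_iff.1 x.2) y hy)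

end Setup

section Inter
variable {G X : Type*} [Group G] [MulAction G X] [Finite X]

theorem card_inter_le (g h : G) :
    Nat.card {x : X // g • x = x ∧ h • x = x} ≤ Nat.card (fixedBy X g) :=
  Nat.card_le_card_of_injective
    (fun x : {x : X // g • x = x ∧ h • x = x} => (⟨x.1, x.2.1⟩ : fixedBy X g))
    (fun x y hxy => Subtype.ext (congrArg (fun z : fixedBy X g => z.1) hxy))

omit [Finite X] in
theorem card_inter_comm (g h : G) :
    Nat.card {x : X // g • x = x ∧ h • x = x} = Nat.card {x : X // h • x = x ∧ g • x = x} :=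
  Nat.card_congr (Equiv.subtypeEquivRight fun _ => and_comm)

end Inter

end Cfsg.Agent.Lib.Helper75
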