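import Cfsg.Agent.Lib.Helper75.JC45F5
import Cfsg.Agent.Lib.Helper75.JC45CJ

set_option autoImplicit false

/-! S2945 ladder (JC45), rung PAIR: two subnormal J-components `K₁, K₂` of `Y` have the same
four-group or centralize each other's four-group. -/

namespace Cfsg.Agent.Lib.Helper75.JC45

open Cfsg Subgroup
open Cfsg.Agent.Lib.Helper75.JC Cfsg.Agent.Lib.Helper53.JC Cfsg.Agent.Lib.Helper53
open Cfsg.Agent.Lib.Helper55 (SN)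
open Cfsg.Agent.Lib.Helper15.ZJ (AE PE)
open Cfsg.Agent.Lib.Helper54.JC45

variable {G : Type*} [Group G]

/-- the conclusion of PAIR -/
def PairC (K₁ K₂ : Subgroup G) : Prop :=
  wOf K₁ = wOf K₂ ∨ (K₁ ≤ centralizer (wOf K₂ : Set G) ∧ K₂ ≤ centralizer (wOf K₁ : Set G))

theorem commute_of_sq_commute {g x : G} (hodd : Odd (orderOf g)) (h : Commute (g ^ 2) x) :
    Commute g x := by
  obtain ⟨j, hj⟩ := hodd
  have e : g = (g ^ 2) ^ (j + 1) := by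
    rw [← pow_mul, mul_add, mul_one, show 2 * j + 2 = (2 * j + 1) + 1 from rfl, pow_succ, ← hj,
      pow_orderOf_eq_one, one_mul]
  rw [e]; exact h.pow_left _

theorem exists_ne_one_of_four {W : Subgroup G} (hW : Four W) : ∃ x ∈ W, x ≠ 1 := by
  by_contra h
  push Not at h
  have : W = ⊥ := (eq_bot_iff_forall W).mpr h
  have h4 := hW.card
  rw [this] at h4
  simp at h4

theorem stepA_core [Finite G] {Y K₁ K₂ : Subgroup G} (h₁ : JT K₁) (h₂ : JT K₂) (s₁ : SN K₁ Y)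
    (s₂ : SN K₂ Y) {k' : G} (hk' : k' ∈ K₂) (hodd : Odd (orderOf k'))
    (hc1 : K₁ ≤ centralizer (cjj k' (wOf K₁) : Set G))
    (hc2 : K₁ ≤ centralizer (cjj k'⁻¹ (wOf K₁) : Set G)) : False := by
  have hW1U := wOf_le_omega h₁ s₁
  have hPE := omegaCenterOf_PE (pCoreOf 2 Y)
  have hF5 := comm_mem_wOf h₂ s₂
  have hkU := K_le_normU s₂ hk'
  have hkU' := K_le_normU s₂ (inv_mem hk')
  obtain ⟨⟨J₁, S₁, c₁⟩, -⟩ := h₁
  obtain ⟨⟨J₂, S₂, c₂⟩, -⟩ := h₂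
  obtain ⟨k0, hk0, hk0odd, hk0W⟩ := c₁.exists_k0
  have hk0N : k0 ∈ normalizer (wOf K₁ : Set G) := K_le_normW K₁ hk0
  have fixA : ∀ x ∈ wOf K₁, k0 * (k' * x * k'⁻¹) * k0⁻¹ = k' * x * k'⁻¹ := fun x hx =>
    Four.conj_eq_of_mem_centralizer (hc1 hk0) (cj_mem k' hx)
  have fixB : ∀ x ∈ wOf K₁, k0 * (k'⁻¹ * x * k') * k0⁻¹ = k'⁻¹ * x * k' := fun x hx => by
    have := Four.conj_eq_of_mem_centralizer (hc2 hk0) (cj_mem k'⁻¹ hx)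
    simpa using this
  have memA : ∀ x ∈ wOf K₁, k' * x * k'⁻¹ ∈ omegaCenterOf (pCoreOf 2 Y) := fun x hx =>
    (mem_normalizer_iff.mp hkU x).mp (hW1U hx)
  have memB : ∀ x ∈ wOf K₁, k'⁻¹ * x * k' ∈ omegaCenterOf (pCoreOf 2 Y) := fun x hx => by
    have := (mem_normalizer_iff.mp hkU' x).mp (hW1U hx)
    simpa using this
  have hT_mem : ∀ x ∈ wOf K₁, (k' * x * k'⁻¹) * (k'⁻¹ * x * k') ∈ wOf K₂ := by
    intro x hx
    have y1 := hF5 k' hk' x (hW1U hx)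
    have y2 := hF5 k'⁻¹ (inv_mem hk') x (hW1U hx)
    rw [inv_inv] at y2
    have hBx : x⁻¹ * (k'⁻¹ * x * k') = (k'⁻¹ * x * k') * x⁻¹ :=
      hPE.1 _ (inv_mem (hW1U hx)) _ (memB x hx)
    have hxx : x⁻¹ * x⁻¹ = 1 := by rw [c₁.four.inv_eq hx]; exact c₁.four.sq x hx
    have e : (k' * x * k'⁻¹) * (k'⁻¹ * x * k') =
        (k' * x * k'⁻¹ * x⁻¹) * (k'⁻¹ * x * k' * x⁻¹) := by
      calc (k' * x * k'⁻¹) * (k'⁻¹ * x * k')
          = (k' * x * k'⁻¹) * (k'⁻¹ * x * k') * (x⁻¹ * x⁻¹) := by rw [hxx, mul_one]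
        _ = (k' * x * k'⁻¹) * ((k'⁻¹ * x * k') * x⁻¹) * x⁻¹ := by simp only [mul_assoc]
        _ = (k' * x * k'⁻¹) * (x⁻¹ * (k'⁻¹ * x * k')) * x⁻¹ := by rw [hBx]
        _ = (k' * x * k'⁻¹ * x⁻¹) * (k'⁻¹ * x * k' * x⁻¹) := by simp only [mul_assoc]
    rw [e]; exact mul_mem y1 y2
  have hT_fix : ∀ x ∈ wOf K₁, k0 * ((k' * x * k'⁻¹) * (k'⁻¹ * x * k')) * k0⁻¹ =
      (k' * x * k'⁻¹) * (k'⁻¹ * x * k') := by
    intro x hx
    calc k0 * ((k' * x * k'⁻¹) * (k'⁻¹ * x * k')) * k0⁻¹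
        = (k0 * (k' * x * k'⁻¹) * k0⁻¹) * (k0 * (k'⁻¹ * x * k') * k0⁻¹) := by group
      _ = _ := by rw [fixA x hx, fixB x hx]
  have hT_ne : ∀ x ∈ wOf K₁, x ≠ 1 → (k' * x * k'⁻¹) * (k'⁻¹ * x * k') ≠ 1 := by
    intro x hx hx1 hT
    apply hx1
    have e1 : k' * x * k'⁻¹ = (k'⁻¹ * x * k')⁻¹ := eq_inv_of_mul_eq_one_left hT
    have e2 : (k'⁻¹ * x * k')⁻¹ = k'⁻¹ * x * k' := by
      have : (k'⁻¹ * x * k')⁻¹ = k'⁻¹ * x⁻¹ * k' := by group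
      rw [this, c₁.four.inv_eq hx]
    rw [e2] at e1
    have e3 : Commute (k' ^ 2) x := by
      show k' ^ 2 * x = x * k' ^ 2
      calc k' ^ 2 * x = k' * (k' * x * k'⁻¹) * k' := by rw [pow_two]; group
        _ = k' * (k'⁻¹ * x * k') * k' := by rw [e1]
        _ = x * k' ^ 2 := by rw [pow_two]; group
    have e4 : Commute k' x := commute_of_sq_commute hodd e3
    have e5 : k' * x * k'⁻¹ = x := by rw [e4.eq]; group
    have e6 := fixA x hx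
    rw [e5] at e6
    exact c₁.eq_one_of_fix hk0 hk0odd hk0W hx e6
  have hT_mul : ∀ x ∈ wOf K₁, ∀ y ∈ wOf K₁,
      (k' * (x * y) * k'⁻¹) * (k'⁻¹ * (x * y) * k') =
        ((k' * x * k'⁻¹) * (k'⁻¹ * x * k')) * ((k' * y * k'⁻¹) * (k'⁻¹ * y * k')) := by
    intro x hx y hy
    have hc : (k' * y * k'⁻¹) * (k'⁻¹ * x * k') = (k'⁻¹ * x * k') * (k' * y * k'⁻¹) :=
      hPE.1 _ (memA y hy) _ (memB x hx)
    calc (k' * (x * y) * k'⁻¹) * (k'⁻¹ * (x * y) * k')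
        = (k' * x * k'⁻¹) * ((k' * y * k'⁻¹) * (k'⁻¹ * x * k')) * (k'⁻¹ * y * k') := by group
      _ = (k' * x * k'⁻¹) * ((k'⁻¹ * x * k') * (k' * y * k'⁻¹)) * (k'⁻¹ * y * k') := by rw [hc]
      _ = _ := by simp only [mul_assoc]
  obtain ⟨x₁, hx₁, hx₁1⟩ := exists_ne_one_of_four c₁.four
  have hx₂ : k0 * x₁ * k0⁻¹ ∈ wOf K₁ := Four.conj_mem hk0N hx₁
  have hx₂1 : k0 * x₁ * k0⁻¹ ≠ 1 := by
    intro h
    apply hx₁1
    have : x₁ = k0⁻¹ * (k0 * x₁ * k0⁻¹) * k0 := by group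
    rw [this, h]; group
  have hx₁₂ : k0 * x₁ * k0⁻¹ ≠ x₁ := fun h => hx₁1 (c₁.eq_one_of_fix hk0 hk0odd hk0W hx₁ h)
  have hprod1 : x₁ * (k0 * x₁ * k0⁻¹) ≠ 1 := by
    intro h
    apply hx₁₂
    have : k0 * x₁ * k0⁻¹ = x₁⁻¹ := (inv_eq_of_mul_eq_one_right h).symm
    rw [this, c₁.four.inv_eq hx₁]
  have hTne : (k' * x₁ * k'⁻¹) * (k'⁻¹ * x₁ * k') ≠
      (k' * (k0 * x₁ * k0⁻¹) * k'⁻¹) * (k'⁻¹ * (k0 * x₁ * k0⁻¹) * k') := by
    intro h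
    apply hT_ne _ (mul_mem hx₁ hx₂) hprod1
    rw [hT_mul x₁ hx₁ _ hx₂, ← h]
    exact c₂.four.sq _ (hT_mem x₁ hx₁)
  have hk0c : k0 ∈ centralizer (wOf K₂ : Set G) :=
    c₂.four.fix_all (hT_mem x₁ hx₁) (hT_mem _ hx₂) (hT_ne x₁ hx₁ hx₁1) (hT_ne _ hx₂ hx₂1) hTne
      (hT_fix x₁ hx₁) (hT_fix _ hx₂)
  have hy := hF5 k' hk' x₁ (hW1U hx₁)
  have hyfix := Four.conj_eq_of_mem_centralizer hk0c hy
  apply hx₁1
  apply c₁.eq_one_of_fix hk0 hk0odd hk0W hx₁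
  calc k0 * x₁ * k0⁻¹
      = (k0 * (k' * x₁ * k'⁻¹ * x₁⁻¹) * k0⁻¹)⁻¹ * (k0 * (k' * x₁ * k'⁻¹) * k0⁻¹) := by group
    _ = (k' * x₁ * k'⁻¹ * x₁⁻¹)⁻¹ * (k' * x₁ * k'⁻¹) := by rw [hyfix, fixA x₁ hx₁]
    _ = x₁ := by group

theorem stepA [Finite G] {Y K₁ K₂ : Subgroup G}
    (IH : ∀ N : Subgroup G, Nat.card N < Nat.card Y → ∀ L₁ L₂ : Subgroup G, JT L₁ → JT L₂ →
      SN L₁ N → SN L₂ N → PairC L₁ L₂)
    (h₁ : JT K₁) (h₂ : JT K₂) (s₁ : SN K₁ Y) (s₂ : SN K₂ Y) :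
    K₂ ≤ normalizer (wOf K₁ : Set G) := by
  by_cases hKY : K₁ = Y
  · exact (s₂.le.trans hKY.ge).trans (K_le_normW K₁)
  obtain ⟨N, hKN, hNY, hYN⟩ := s₁.exists_normal hKY
  have hcard : Nat.card N < Nat.card Y :=
    lt_of_le_of_ne (Subgroup.card_le_of_le hNY.le)
      (fun h => hNY.ne (Subgroup.eq_of_le_of_card_ge hNY.le h.ge))
  have key : ∀ g ∈ K₂, g ∉ normalizer (wOf K₁ : Set G) →
      K₁ ≤ centralizer (cjj g (wOf K₁) : Set G) := by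
    intro g hg hgN
    have hgY := s₂.le hg
    have hle : cjj g K₁ ≤ N := by
      have h1 : cjj g K₁ ≤ cjj g N := cj_mono g hKN
      have h2 : cjj g N = N := cj_eq_self_iff.2 (hYN hgY)
      rwa [h2] at h1
    have sg : SN (cjj g K₁) N := (s₁.conj_mem hgY).mono hle hNY.le
    rcases IH N hcard K₁ (cjj g K₁) h₁ (JT_cj h₁ g) (s₁.mono hKN hNY.le) sg with h | h
    · exfalso
      apply hgN
      rw [← cj_eq_self_iff]
      exact (wOf_cj g K₁).trans h.symm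
    · rw [wOf_cj]; exact h.1
  have hodd₂ : closure {g : G | g ∈ K₂ ∧ Odd (orderOf g)} = K₂ := by
    obtain ⟨⟨J₂, S₂, c₂⟩, -⟩ := h₂
    exact c₂.odd
  conv_lhs => rw [← hodd₂]
  rw [closure_le]
  rintro k' ⟨hk', hodd⟩
  by_contra hcon
  rw [SetLike.mem_coe] at hcon
  exact stepA_core h₁ h₂ s₁ s₂ hk' hodd (key k' hk' hcon)
    (key k'⁻¹ (inv_mem hk') (fun h => hcon (by simpa using inv_mem h)))

theorem stepB [Finite G] {Y K₁ K₂ : Subgroup G} (h₁ : JT K₁) (h₂ : JT K₂) (s₁ : SN K₁ Y)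
    (s₂ : SN K₂ Y) (hN : K₂ ≤ normalizer (wOf K₁ : Set G)) :
    wOf K₁ = wOf K₂ ∨ K₂ ≤ centralizer (wOf K₁ : Set G) := by
  have hW1U := wOf_le_omega h₁ s₁
  have hF5 := comm_mem_wOf h₂ s₂
  obtain ⟨⟨J₁, S₁, c₁⟩, -⟩ := h₁
  obtain ⟨⟨J₂, S₂, c₂⟩, -⟩ := h₂
  by_cases hall : ∀ k' ∈ K₂, Odd (orderOf k') → k' ∈ centralizer (wOf K₁ : Set G)
  · right
    conv_lhs => rw [← c₂.odd]
    rw [closure_le]
    rintro k' ⟨hk', hodd⟩
    exact hall k' hk' hodd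
  left
  push Not at hall
  obtain ⟨k', hk', hodd, hkc⟩ := hall
  have hkN := hN hk'
  have hfpf : ∀ x ∈ wOf K₁, k' * x * k'⁻¹ = x → x = 1 := by
    intro x hx h
    by_contra hx1
    exact hkc (c₁.four.odd_centralizes hkN hodd hx hx1 h)
  have hne1 : ∀ x : G, x ≠ 1 → k' * x * k'⁻¹ ≠ 1 := by
    intro x hx1 h
    apply hx1
    have : x = k'⁻¹ * (k' * x * k'⁻¹) * k' := by group
    rw [this, h]; group
  obtain ⟨x, hx, hx1⟩ := exists_ne_one_of_four c₁.four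
  have hx' : k' * x * k'⁻¹ ∈ wOf K₁ := Four.conj_mem hkN hx
  have hx'1 := hne1 x hx1
  have hxx' : x ≠ k' * x * k'⁻¹ := fun h => hx1 (hfpf x hx h.symm)
  have hx'' : k' * (k' * x * k'⁻¹) * k'⁻¹ ∈ wOf K₁ := Four.conj_mem hkN hx'
  have hcase : k' * (k' * x * k'⁻¹) * k'⁻¹ = x * (k' * x * k'⁻¹) := by
    rcases c₁.four.cases hx hx' hx1 hx'1 hxx' hx'' with h | h | h | h
    · exact absurd h (hne1 _ hx'1)
    · exfalso
      have h3 : k' * (x * (k' * x * k'⁻¹)) * k'⁻¹ = x * (k' * x * k'⁻¹) := by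
        calc k' * (x * (k' * x * k'⁻¹)) * k'⁻¹
            = (k' * x * k'⁻¹) * (k' * (k' * x * k'⁻¹) * k'⁻¹) := by group
          _ = (k' * x * k'⁻¹) * x := by rw [h]
          _ = x * (k' * x * k'⁻¹) := c₁.four.comm hx' hx
      have h4 := hfpf _ (mul_mem hx hx') h3
      apply hxx'
      have : k' * x * k'⁻¹ = x⁻¹ := (inv_eq_of_mul_eq_one_right h4).symm
      rw [this, c₁.four.inv_eq hx]
    · exact absurd (hfpf _ hx' h) hx'1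
    · exact h
  have m1 := hF5 k' hk' x (hW1U hx)
  have m2 := hF5 k' hk' _ (hW1U hx')
  rw [hcase] at m2
  have hxW2 : x ∈ wOf K₂ := by
    have e : x * (k' * x * k'⁻¹) * (k' * x * k'⁻¹)⁻¹ = x := by group
    rwa [e] at m2
  have hx'W2 : k' * x * k'⁻¹ ∈ wOf K₂ := by
    have := mul_mem m1 hxW2
    have e : k' * x * k'⁻¹ * x⁻¹ * x = k' * x * k'⁻¹ := by group
    rwa [e] at this
  have hle : wOf K₁ ≤ wOf K₂ := by
    intro v hv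
    rcases c₁.four.cases hx hx' hx1 hx'1 hxx' hv with h | h | h | h
    · rw [h]; exact one_mem _
    · rw [h]; exact hxW2
    · rw [h]; exact hx'W2
    · rw [h]; exact mul_mem hxW2 hx'W2
  exact Subgroup.eq_of_le_of_card_ge hle (by rw [c₁.four.card, c₂.four.card])

theorem pair_aux [Finite G] : ∀ n : ℕ, ∀ Y : Subgroup G, Nat.card Y = n →
    ∀ K₁ K₂ : Subgroup G, JT K₁ → JT K₂ → SN K₁ Y → SN K₂ Y → PairC K₁ K₂ := by
  intro n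
  induction n using Nat.strong_induction_on with
  | _ n ih =>
    intro Y hY K₁ K₂ h₁ h₂ s₁ s₂
    have IH : ∀ N : Subgroup G, Nat.card N < Nat.card Y → ∀ L₁ L₂ : Subgroup G, JT L₁ → JT L₂ →
        SN L₁ N → SN L₂ N → PairC L₁ L₂ := fun N hN => ih _ (hY ▸ hN) N rfl
    have hA1 := stepA IH h₁ h₂ s₁ s₂
    have hA2 := stepA IH h₂ h₁ s₂ s₁
    rcases stepB h₁ h₂ s₁ s₂ hA1 with h | h
    · exact Or.inl h
    rcases stepB h₂ h₁ s₂ s₁ hA2 with h' | h'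
    · exact Or.inl h'.symm
    · exact Or.inr ⟨h', h⟩

/-- [PAIR] -/
theorem pair [Finite G] {Y K₁ K₂ : Subgroup G} (h₁ : JT K₁) (h₂ : JT K₂) (s₁ : SN K₁ Y)
    (s₂ : SN K₂ Y) :
    wOf K₁ = wOf K₂ ∨ (K₁ ≤ centralizer (wOf K₂ : Set G) ∧ K₂ ≤ centralizer (wOf K₁ : Set G)) :=
  pair_aux _ Y rfl K₁ K₂ h₁ h₂ s₁ s₂

end Cfsg.Agent.Lib.Helper75.JC45
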