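import Cfsg.Agent.Lib.Helper75.BGTopMore
import Cfsg.Agent.Lib.Helper29.T16KEB
import Cfsg.Agent.Lib.Helper2.BG16D

/-!
B-G top level: statement S1390 from the texts of S1351, S1352, S1355, S1357, S1358, S1361, S1362,
S1364, S1365 only (only the "forward" halves of the characterisations of the types are used, and
they are proved here).
-/

set_option autoImplicit false
set_option linter.unusedVariables false

namespace Cfsg.Agent.Lib.Helper75.BGTop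

open Subgroup Cfsg.Agent.Lib.Helper30 Cfsg.Agent.Lib.Helper2 Cfsg.Agent.Lib.Helper2.BG12
  Cfsg.Agent.Lib.Helper68 Cfsg.Agent.Lib.Helper2.BG139 Cfsg.Agent.Lib.Helper2.BG16

universe u

variable {G : Type u} [Group G]

/-- text of S1364. -/
def T1364 (G : Type u) [Group G] : Prop :=
  ∀ (M : Subgroup G) (hM : IsCoatom M) (K U : Subgroup G) (hKU : Cfsg.IsSigmaDecomposition M K U) (hK1 : K ≠ ⊥),
    IsCyclic ↥(Cfsg.sigmaCore M ⊓ Subgroup.centralizer (K : Set G)) ∧ (Cfsg.sigmaCore M ⊓ Subgroup.centralizer (K : Set G)) ≠ ⊥ ∧ (Cfsg.sigmaCore M ⊓ Subgroup.centralizer (K : Set G)) ≤ Cfsg.fittingHallOf M ∧ ¬ IsCyclic (Cfsg.fittingHallOf M)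

/-- the texts used for S1390. -/
structure Texts90 (G : Type u) [Group G] : Prop where
  t1351 : T1351 G
  t1352 : T1352 G
  t1355 : T1355 G
  t1357 : T1357 G
  t1358 : T1358 G
  t1361 : T1361 G
  t1362 : T1362 G
  t1364 : T1364 G
  t1365 : T1365 G

variable [Finite G] {M K U : Subgroup G}

/-- a cyclic Hall subgroup `W₁` meeting `M'` trivially and centralizing `1 ≠ W₂ ≤ M_σ` gives primes in
`κ(M)` (helper2's `mem_kappa_of_hall`, with fewer hypotheses). -/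
theorem mem_kappa_of_hall' (hG : Cfsg.IsMinSimpleOddOrder G) (t55 : T1355 G) (hM : IsCoatom M)
    {W₁ W₂ : Subgroup G} (hW₁M : W₁ ≤ M)
    (hcyc : IsCyclic W₁) (hhall : (Nat.card W₁).Coprime (W₁.relIndex M))
    (hinf : ⁅M, M⁆ ⊓ W₁ = ⊥) (hW₂ : W₂ ≠ ⊥) (hW₂σ : W₂ ≤ Cfsg.sigmaCore M)
    (hcomm : ∀ a ∈ W₁, ∀ b ∈ W₂, a * b = b * a) {p : ℕ} (hp : p.Prime) (hpW : p ∣ Nat.card W₁) :
    p ∈ Cfsg.kappa M := by
  have : Fact p.Prime := ⟨hp⟩
  obtain ⟨Wp, hWp⟩ := exists_isSylowIn p W₁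
  have hWp1 : Wp ≠ ⊥ := by
    rintro rfl
    apply hWp.not_dvd
    rwa [relIndex_bot_left]
  have hWpM : IsSylowIn p Wp M := by
    refine ⟨hWp.le.trans hW₁M, hWp.isPGroup, ?_⟩
    rw [← relIndex_mul_relIndex Wp W₁ M hWp.le hW₁M]
    intro hd
    rcases (Nat.Prime.dvd_mul hp).mp hd with h' | h'
    · exact hWp.not_dvd h'
    · exact hp.one_lt.ne' (Nat.dvd_one.mp (hhall ▸ Nat.dvd_gcd hpW h'))
  have hpσ : p ∉ Cfsg.sigma M := by
    intro hσ
    have h1 := Cfsg.Agent.Lib.Helper28.BG12.isPGroup_le_sigmaCore hG hM hσ hWpM.le hWp.isPGroup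
    have h2 : Wp ≤ ⁅M, M⁆ ⊓ W₁ := le_inf (h1.trans (t55 M hM).2.2.1) hWp.le
    rw [hinf] at h2
    exact hWp1 (eq_bot_iff.mpr h2)
  refine ⟨hp, hpW.trans (card_dvd_of_le hW₁M), hpσ, ?_⟩
  intro P
  obtain ⟨m, hm, hmP⟩ := hWpM.conj (isSylowIn_of_sylow P)
  constructor
  · have h1 : IsCyclic ↥(cj m Wp) := isCyclic_cj (isCyclic_of_le hcyc hWp.le) m
    rw [← hmP] at h1
    have e := equivMapOfInjective (P : Subgroup M) M.subtype M.subtype_injective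
    exact isCyclic_of_surjective e.symm e.symm.surjective
  · obtain ⟨w, hw, hw1⟩ := exists_ne_one_of_ne_bot hWp1
    obtain ⟨w₂, hw₂, hw₂1⟩ := exists_ne_one_of_ne_bot hW₂
    have h1 : m * w * m⁻¹ ∈ (P : Subgroup M).map M.subtype := by
      rw [hmP]
      exact ⟨w, hw, rfl⟩
    obtain ⟨x, hx, hxe⟩ := h1
    refine ⟨x, hx, ?_, m * w₂ * m⁻¹, ?_, ?_, ?_⟩
    · rintro rfl
      apply hw1
      have : m * w * m⁻¹ = 1 := hxe.symm
      have e : w = m⁻¹ * (m * w * m⁻¹) * m := by group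
      rw [e, this]; group
    · exact sigmaCore_conj_mem hm (hW₂σ hw₂)
    · intro h1
      apply hw₂1
      have e : w₂ = m⁻¹ * (m * w₂ * m⁻¹) * m := by group
      rw [e, h1]; group
    · have hx' : (x : G) = m * w * m⁻¹ := hxe
      rw [hx']
      have := hcomm w (hWp.le hw) w₂ hw₂
      calc m * w * m⁻¹ * (m * w₂ * m⁻¹) = m * (w * w₂) * m⁻¹ := by group
        _ = m * (w₂ * w) * m⁻¹ := by rw [this]
        _ = m * w₂ * m⁻¹ * (m * w * m⁻¹) := by group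

theorem K_ne_bot_of_typeP' (hG : Cfsg.IsMinSimpleOddOrder G) (t55 : T1355 G) (hM : IsCoatom M)
    (h : Cfsg.IsSigmaDecomposition M K U)
    {W₁ Ut W₂ : Subgroup G} (hP : Cfsg.IsTypePWith M W₁ Ut W₂) : K ≠ ⊥ := by
  have h1 : Nat.card W₁ ≠ 1 := fun hc => hP.W₁_ne (card_eq_one.mp hc)
  obtain ⟨p, hp, hd⟩ := Nat.exists_prime_and_dvd h1
  exact K_ne_bot_of_kappa h (mem_kappa_of_hall' hG t55 hM hP.W₁_compl.2.1 hP.W₁_cyclic hP.W₁_hall
    hP.W₁_compl.2.2.1 hP.selfNormalizing.2.1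
    ((hP.W₂_le.trans inf_le_left).trans (t55 M hM).2.1) hP.selfNormalizing.2.2.2.1 hp hd)

/-- Type II forces `U ≠ 1` (helper2's `U_ne_bot_of_typeII`, with fewer hypotheses). -/
theorem U_ne_bot_of_typeII' (hG : Cfsg.IsMinSimpleOddOrder G) (t55 : T1355 G) (hM : IsCoatom M)
    (h : Cfsg.IsSigmaDecomposition M K U)
    {W₁ Ut W₂ : Subgroup G} (hP : Cfsg.IsTypePWith M W₁ Ut W₂) (hUt : Ut ≠ ⊥)
    (hc : IsMulCommutative Ut) (hN : ¬ normalizer (Ut : Set G) ≤ M) : U ≠ ⊥ := by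
  rintro rfl
  apply hN
  have hDσ := commutator_le_sigmaCore h
  obtain ⟨hle, hπ, hidx⟩ := Cfsg.Agent.Lib.Helper28.BG12.sigmaCore_hall hG hM
  have hDM : ⁅M, M⁆ ≤ M := commutator_le_self M
  have h1 : Nat.card Ut ≠ 1 := fun hc => hUt (card_eq_one.mp hc)
  obtain ⟨r, hr, hd⟩ := Nat.exists_prime_and_dvd h1
  have : Fact r.Prime := ⟨hr⟩
  have hUtD : Ut ≤ ⁅M, M⁆ := hP.U_compl.2.1
  have hrσ : r ∈ Cfsg.sigma M := hπ r hr (hd.trans (card_dvd_of_le (hUtD.trans hDσ)))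
  obtain ⟨R, hR⟩ := exists_isSylowIn r Ut
  have hcop := Cfsg.Agent.Lib.Helper29.coprime_card_fittingHallOf_of_disjoint M Ut (hUtD.trans hDM)
    hP.U_compl.2.2.1
  have hidxU : Ut.relIndex ⁅M, M⁆ = Nat.card (Cfsg.fittingHallOf M) := by
    have h2 := (isComplement'_of_isComplIn hP.U_compl).card_mul_card
    rw [card_subgroupOf hP.U_compl.1, card_subgroupOf hP.U_compl.2.1] at h2
    have h3 := card_eq_card_mul_relIndex hUtD
    rw [← h2, mul_comm] at h3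
    exact (Nat.eq_of_mul_eq_mul_left Nat.card_pos h3).symm
  have hRM : IsSylowIn r R M := by
    refine ⟨hR.le.trans (hUtD.trans hDM), hR.isPGroup, ?_⟩
    rw [← relIndex_mul_relIndex R Ut M hR.le (hUtD.trans hDM),
      ← relIndex_mul_relIndex Ut ⁅M, M⁆ M hUtD hDM, hidxU]
    intro hdv
    rcases (Nat.Prime.dvd_mul hr).mp hdv with h' | h'
    · exact hR.not_dvd h'
    · rcases (Nat.Prime.dvd_mul hr).mp h' with h' | h'
      · exact hr.one_lt.ne' (Nat.dvd_one.mp (hcop ▸ Nat.dvd_gcd h' hd))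
      · apply hidx r hr hrσ
        have e : ⁅M, M⁆ = Cfsg.sigmaCore M := le_antisymm hDσ (t55 M hM).2.2.1
        rwa [e] at h'
  exact (normalizer_le_normalizer_sylow_of_comm hc hR).trans (normalizer_le_of_mem_sigma hrσ hRM)

/-- complements of `M_σ` in `U₀ M_σ` are Hall subgroups. -/
theorem isPiHallOf_of_compl (hG : Cfsg.IsMinSimpleOddOrder G)
    {U₀ : Subgroup G} (hM : IsCoatom M) (D : Cfsg.IsSigmaDecomposition M K U₀)
    (hU : Cfsg.IsComplIn (Cfsg.sigmaCore M) U (U₀ ⊔ Cfsg.sigmaCore M)) :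
    Cfsg.IsPiHallOf (Cfsg.sigma M)ᶜ U (U₀ ⊔ Cfsg.sigmaCore M) := by
  have hW : U₀ ⊔ Cfsg.sigmaCore M ≤ M := sup_le_of_decomp D
  have hS := Cfsg.Agent.Lib.Helper28.BG12.sigmaCore_hall hG hM
  refine ⟨hU.2.1, ?_, ?_⟩
  · intro q hq hqd hqσ
    rw [Cfsg.Agent.Lib.Helper28.BG12.card_compl (isComplIn_swap hU)] at hqd
    apply hS.2.2 q hq hqσ
    rw [← relIndex_mul_relIndex _ _ _ (le_sup_right : _ ≤ U₀ ⊔ Cfsg.sigmaCore M) hW]
    exact hqd.trans (Dvd.intro _ rfl)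
  · intro q hq hqσ hqd
    rw [← Cfsg.Agent.Lib.Helper28.BG12.card_compl' (isComplIn_swap hU)] at hqd
    exact hqσ (hS.2.1 q hq hqd)

/-- two complements of `M_σ` in `U₀ M_σ`: their normalizers lie in `M` simultaneously. -/
theorem normalizer_le_of_compl (hG : Cfsg.IsMinSimpleOddOrder G)
    {U₀ U₁ U₂ : Subgroup G} (hM : IsCoatom M) (D : Cfsg.IsSigmaDecomposition M K U₀)
    (h₁ : Cfsg.IsComplIn (Cfsg.sigmaCore M) U₁ (U₀ ⊔ Cfsg.sigmaCore M))
    (h₂ : Cfsg.IsComplIn (Cfsg.sigmaCore M) U₂ (U₀ ⊔ Cfsg.sigmaCore M))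
    (hN : normalizer (U₁ : Set G) ≤ M) : normalizer (U₂ : Set G) ≤ M := by
  have hW : U₀ ⊔ Cfsg.sigmaCore M ≤ M := sup_le_of_decomp D
  have hs : Group.IsSolvable ↥(U₀ ⊔ Cfsg.sigmaCore M) := by
    have := solvable_of_ne_top hG hM.1
    exact Group.isSolvable_of_isSolvable_injective (Subgroup.inclusion_injective hW)
  obtain ⟨g, hg, e⟩ := Cfsg.Agent.Lib.Helper66.isPiHallOf_exists_conj hs
    (isPiHallOf_of_compl hG hM D h₁) (isPiHallOf_of_compl hG hM D h₂)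
  rw [e, Cfsg.Agent.Lib.Helper30.normalizer_cj]
  have := cj_mono g hN
  rwa [cj_eq_of_mem (hW hg)] at this

/-- statement S1390 from the texts. -/
theorem S1390_of' (hG : Cfsg.IsMinSimpleOddOrder G) (T : Texts90 G)
    (M : Subgroup G) (hM : IsCoatom M) (U : Subgroup G)
    (hU : (Cfsg.IsOfTypeI M ∧ Cfsg.IsComplIn (Cfsg.fittingHallOf M) U M) ∨ (Cfsg.IsOfTypeII M ∧ Cfsg.IsComplIn (Cfsg.fittingHallOf M) U ⁅M, M⁆)) :
    (∀ (p : ℕ), p.Prime → ∀ P : Sylow p U, IsMulCommutative (P : Subgroup U) ∧ Cfsg.PRankLE p 2 (P : Subgroup U)) ∧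
      (∀ X : Set G, X ⊆ (U : Set G) \ {1} → X.Nonempty → Cfsg.fittingHallOf M ⊓ Subgroup.centralizer X ≠ ⊥ →
        Subgroup.centralizer X ≤ M ∧ ∀ L : Subgroup G, IsCoatom L → Subgroup.centralizer X ≤ L → L = M) ∧
      Cfsg.IsTISubset (Cfsg.typeA M \ Cfsg.typeA1 M) := by
  obtain ⟨⟨K, hK⟩, hc⟩ := T.t1351 M hM
  obtain ⟨⟨U₀, D⟩, -⟩ := T.t1352 M hM K (hc K hK) hK
  have hMF : U₀ ≠ ⊥ → Cfsg.fittingHallOf M = Cfsg.sigmaCore M := by
    intro hU₀
    by_contra h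
    exact hU₀ (T.t1357 M hM K U₀ D h).1
  have hKI : Cfsg.IsOfTypeI M → K = ⊥ := fun h =>
    Cfsg.Agent.Lib.Helper29.T16.K_eq_bot_of_typeF (fun _ => T.t1355) (fun _ => T.t1364) hG hM D h.1
  have key : Cfsg.fittingHallOf M = Cfsg.sigmaCore M ∧
      Cfsg.IsComplIn (Cfsg.sigmaCore M) U (U₀ ⊔ Cfsg.sigmaCore M) ∧
      Cfsg.typeCore M = Cfsg.sigmaCore M ∧ Cfsg.typeA M = Cfsg.sigmaA M U₀ \ {1} := by
    rcases hU with ⟨h1, h2⟩ | ⟨h1, h2⟩
    · have hK0 := hKI h1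
      have hU₀ : U₀ ≠ ⊥ := by
        intro hU₀
        have h := sup_eq_of_eq_bot D hK0
        rw [hU₀, bot_sup_eq] at h
        obtain ⟨-, -, h3, h4, -⟩ := T.t1355 M hM
        rw [h] at h3
        exact absurd h4 (not_lt_of_ge h3)
      have e := hMF hU₀
      have hno : ¬ (Cfsg.IsOfTypeIII M ∨ Cfsg.IsOfTypeIV M) := by
        rintro (⟨W₁, Ut, W₂, hP, -⟩ | ⟨W₁, Ut, W₂, hP, -⟩) <;>
          exact K_ne_bot_of_typeP' hG T.t1355 hM D hP hK0
      refine ⟨e, ?_, ?_, ?_⟩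
      · rw [sup_eq_of_eq_bot D hK0, ← e]
        exact h2
      · unfold Cfsg.typeCore
        rw [if_neg hno, e]
      · unfold Cfsg.typeA
        rw [if_pos h1, e]
        ext a
        simp only [Cfsg.sigmaA, Cfsg.sigmaHat, sup_eq_of_eq_bot D hK0, Set.mem_ofPred_eq,
          Set.mem_sdiff, Set.mem_inter_iff, SetLike.mem_coe, Set.mem_singleton_iff]
        tauto
    · have h1' := h1
      obtain ⟨W₁, Ut, W₂, hP, hUt, -, -, hcU, hN, -, -⟩ := h1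
      have hK0 : K ≠ ⊥ := K_ne_bot_of_typeP' hG T.t1355 hM D hP
      have hU₀ : U₀ ≠ ⊥ := U_ne_bot_of_typeII' hG T.t1355 hM D hP hUt hcU hN
      have e := hMF hU₀
      have hder := (T.t1365 M hM K U₀ D hK0).1
      have hnoI : ¬ Cfsg.IsOfTypeI M := fun h => hK0 (hKI h)
      have hcompl : ∀ {W₁' Ut' W₂' : Subgroup G}, Cfsg.IsTypePWith M W₁' Ut' W₂' →
          Cfsg.IsComplIn (Cfsg.sigmaCore M) Ut' (U₀ ⊔ Cfsg.sigmaCore M) := by
        intro W₁' Ut' W₂' hP'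
        have := hP'.U_compl
        rwa [e, hder] at this
      have hno : ¬ (Cfsg.IsOfTypeIII M ∨ Cfsg.IsOfTypeIV M) := by
        rintro (⟨W₁', Ut', W₂', hP', -, -, -, -, hN'⟩ | ⟨W₁', Ut', W₂', hP', -, -, -, -, hN'⟩) <;>
          exact hN (normalizer_le_of_compl hG hM D (hcompl hP') (hcompl hP) hN')
      have hcore : Cfsg.typeCore M = Cfsg.sigmaCore M := by
        unfold Cfsg.typeCore
        rw [if_neg hno, e]
      refine ⟨e, ?_, hcore, ?_⟩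
      · rw [← hder, ← e]
        exact h2
      · unfold Cfsg.typeA
        rw [if_neg hnoI, hcore, hder]
        ext a
        simp only [Cfsg.sigmaA, Cfsg.sigmaHat, Set.mem_ofPred_eq, Set.mem_sdiff,
          Set.mem_inter_iff, SetLike.mem_coe, Set.mem_singleton_iff]
        constructor
        · rintro ⟨h1, h2, h3⟩
          exact ⟨⟨⟨sup_le_of_decomp D h1, h3⟩, h1⟩, h2⟩
        · rintro ⟨⟨⟨-, h3⟩, h1⟩, h2⟩
          exact ⟨h1, h2, h3⟩
  obtain ⟨e, hcU, hcore, hA⟩ := key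
  obtain ⟨K', D'⟩ := decomp_of_compl hG hM D hcU
  refine ⟨T.t1358 M hM K' U D', ?_, ?_⟩
  · intro X hXU hXne hX
    have h1 : closure X ≤ U := (closure_le U).2 (fun x hx => (hXU hx).1)
    have h2 : closure X ≠ ⊥ := by
      obtain ⟨x, hx⟩ := hXne
      intro h
      have : x ∈ closure X := subset_closure hx
      rw [h, mem_bot] at this
      exact (hXU hx).2 this
    have h3 : centralizer ((closure X : Subgroup G) : Set G) = centralizer X :=
      centralizer_closure X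
    have := T.t1361 M hM K' U D' (closure X) h1 h2 (by rw [h3, ← e]; exact hX)
    rwa [h3] at this
  · have h1 : Cfsg.typeA M \ Cfsg.typeA1 M = Cfsg.sigmaA M U₀ \ (Cfsg.sigmaCore M : Set G) := by
      unfold Cfsg.typeA1
      rw [hA, hcore]
      ext a
      simp only [Set.mem_sdiff, Set.mem_singleton_iff, SetLike.mem_coe, not_and, not_not]
      constructor
      · rintro ⟨⟨h1, h2⟩, h3⟩
        exact ⟨h1, fun h => h2 (h3 h)⟩
      · rintro ⟨h1, h2⟩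
        exact ⟨⟨h1, fun h => h2 (h ▸ one_mem _)⟩, fun h => absurd h h2⟩
    rw [h1]
    exact T.t1362 M hM K U₀ D

end Cfsg.Agent.Lib.Helper75.BGTop
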