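import Mathlib
import Cfsg.Prelude.Def_OddOrderLocal
import Cfsg.Agent.Lib.Helper1.Frobenius
import Cfsg.Agent.S0034
import Cfsg.Agent.S0035
import Cfsg.Agent.S0042

/-!
The Frobenius kernel of a finite Frobenius group is its largest normal nilpotent Hall subgroup.
-/

set_option autoImplicit false

namespace Cfsg.Agent.Lib.Helper75.BGTop

open Subgroup Cfsg.Agent.Lib.Helper1
open scoped Pointwise

universe u

theorem frob_le_kernel {M : Type u} [Group M] [Finite M] {E : Subgroup M}
    (hE : Cfsg.IsFrobeniusComplement E) {F : Subgroup M} (hFn : F.Normal)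
    (hFnil : Group.IsNilpotent F) {h : M} (hh : h ∈ F) : h ∈ Cfsg.frobeniusKernel E := by
  by_contra hhN
  obtain ⟨h1, g, hg⟩ := not_mem_frobeniusKernel_iff.1 hhN
  have : Nontrivial F := ⟨⟨⟨h, hh⟩, 1, fun e => h1 (congrArg Subtype.val e)⟩⟩
  have hZ := Group.IsNilpotent.center_ne_bot (G := F)
  obtain ⟨z, hz, hz1⟩ : ∃ z : F, z ∈ center F ∧ z ≠ 1 := by
    by_contra hcon
    push Not at hcon
    exact hZ ((Subgroup.eq_bot_iff_forall _).2 hcon)
  have hzc : ∀ f ∈ F, (z : M) * f = f * z := by
    intro f hf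
    have := mem_center_iff.1 hz ⟨f, hf⟩
    exact (congrArg Subtype.val this).symm
  have hz1' : (z : M) ≠ 1 := fun e => hz1 (Subtype.ext e)
  -- every element of `F` commuting with `h` lies in the same conjugate of `E`
  have step : ∀ c : M, c * h = h * c → c ∈ MulAut.conj g • E := by
    intro c hc
    have h2 : h ∈ MulAut.conj (c * g) • E := by
      rw [mem_conj_smul] at hg ⊢
      have e : (c * g)⁻¹ * h * (c * g) = g⁻¹ * (c⁻¹ * (h * c)) * g := by group
      rw [e, ← hc, inv_mul_cancel_left]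
      exact hg
    have h3 := frob_inv_mul_mem hE h1 hg h2
    rw [mem_conj_smul]
    have e : g⁻¹ * (c * g) = g⁻¹ * c * g := by group
    rwa [e] at h3
  have hall : ∀ m : M, m * z * m⁻¹ ∈ MulAut.conj g • E := by
    intro m
    apply step
    have h4 : m⁻¹ * h * m ∈ F := by
      have := hFn.conj_mem h hh m⁻¹
      rwa [inv_inv] at this
    have h5 := hzc _ h4
    calc m * z * m⁻¹ * h = m * (z * (m⁻¹ * h * m)) * m⁻¹ := by group
      _ = m * ((m⁻¹ * h * m) * z) * m⁻¹ := by rw [h5]
      _ = h * (m * z * m⁻¹) := by group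
  apply hE.2.1
  rw [eq_top_iff]
  intro a _
  have h6 : (z : M) ∈ MulAut.conj g • E := by
    have := hall 1
    simpa using this
  have h7 : (z : M) ∈ MulAut.conj (g * a) • E := by
    have := hall (g * a⁻¹ * g⁻¹)
    rw [mem_conj_smul] at this ⊢
    convert this using 1
    group
  have h8 := frob_inv_mul_mem hE hz1' h6 h7
  rwa [inv_mul_cancel_left] at h8

theorem frobeniusKernel_eq_fittingHall {M : Type u} [Group M] [Finite M] (E : Subgroup M)
    (hE : Cfsg.IsFrobeniusComplement E) :
    Cfsg.frobeniusKernel E = ((Cfsg.fittingHall M : Subgroup M) : Set M) := by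
  obtain ⟨N, hN, hNn, hNnil⟩ := Cfsg.Agent.S0042.result E hE
  obtain ⟨N', hN', -, hNc⟩ := Cfsg.Agent.S0035.result E hE
  have hNN' : N' = N := SetLike.coe_injective (hN'.trans hN.symm)
  subst hNN'
  obtain ⟨hcard, hmod⟩ := Cfsg.Agent.S0034.result E hE
  have hcardN : Nat.card N' = E.index := by
    rw [← hcard, ← hN]
    rfl
  rw [← hN]
  congr 1
  apply le_antisymm
  · apply le_sSup
    refine ⟨hNn, hNnil, ?_⟩
    have hidx : N'.index = Nat.card E := hNc.symm.index_eq_card
    rw [hcardN, hidx]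
    have h1 : E.index ≡ 1 [MOD Nat.card E] := hmod
    have h2 := h1.gcd_eq
    rw [Nat.gcd_one_left] at h2
    exact h2
  · apply sSup_le
    rintro F ⟨hFn, hFnil, -⟩ h hh
    have := frob_le_kernel hE hFn hFnil hh
    rw [← hN] at this
    exact this

end Cfsg.Agent.Lib.Helper75.BGTop
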