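import Cfsg.Agent.Lib.Helper75.BGTopDict
import Cfsg.Agent.Lib.Helper28.BG16c
import Cfsg.Agent.Lib.Helper24.BG14A

/-!
B-G top level: TI-subsets invariant under a maximal subgroup, fusion in `M_σ`, order arguments.
-/

set_option autoImplicit false

namespace Cfsg.Agent.Lib.Helper75.BGTop

open Subgroup Cfsg.Agent.Lib.Helper30

universe u

variable {G : Type u} [Group G]

theorem conj_eq_of_mem_centralizer {c x : G} (hc : c ∈ centralizer ({x} : Set G)) :
    c * x * c⁻¹ = x := by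
  have := mem_centralizer_singleton_iff.1 hc
  rw [this, mul_inv_cancel_right]

theorem mem_of_ti [Finite G] (hG : Cfsg.IsMinSimpleOddOrder G) {M : Subgroup G} (hM : IsCoatom M)
    {X : Set G} (hTI : Cfsg.IsTISubset X) (hXM : X ⊆ (M : Set G))
    (hinv : ∀ m ∈ M, ∀ x ∈ X, m * x * m⁻¹ ∈ X) {x g : G} (hx : x ∈ X) (hx1 : x ≠ 1)
    (hg : g * x * g⁻¹ ∈ X) : g ∈ M := by
  by_contra hgM
  have hMN : M ≤ normalizer X := le_set_normalizer_iff.2 hinv
  have hgN : g ∈ normalizer X := by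
    by_contra h
    exact hx1 (hTI g h x hx hg)
  have htop : normalizer X = ⊤ :=
    hM.2 _ (lt_of_le_of_ne hMN (fun e => hgM (e ▸ hgN)))
  have h1 : closure X ≠ ⊥ := by
    intro h
    have : x ∈ closure X := subset_closure hx
    rw [h, mem_bot] at this
    exact hx1 this
  have h2 : closure X ≠ ⊤ := by
    intro h
    apply hM.1
    rw [eq_top_iff, ← h]
    exact (closure_le M).2 hXM
  apply normalizer_ne_top hG h1 h2
  rw [eq_top_iff]
  intro a _
  exact normalizer_le_normalizer_closure X (htop ▸ mem_top a)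

theorem fusion_sigmaCore [Finite G] (hG : Cfsg.IsMinSimpleOddOrder G) (T : Texts G)
    {M : Subgroup G} (hM : IsCoatom M) {x g : G} (hx : x ∈ Cfsg.sigmaCore M) (hx1 : x ≠ 1)
    (hg : g * x * g⁻¹ ∈ M) : ∃ m ∈ M, m * x * m⁻¹ = g * x * g⁻¹ := by
  obtain ⟨-, R, -, hR, hRg⟩ := T.t1374 M hM x hx hx1
  have hxg : x ∈ cj g⁻¹ M := by
    rw [mem_cj, inv_inv]
    exact hg
  obtain ⟨r, ⟨hr, e⟩, -⟩ := hRg g⁻¹ hxg
  have h1 : cj (g * r) M = M := by
    rw [cj_mul]
    change cj g (M.map (MulAut.conj r).toMonoidHom) = M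
    rw [e]
    exact cj_cj_inv g M
  have h2 := Cfsg.Agent.Lib.Helper28.BG12.mem_of_cj_eq hG hM h1
  refine ⟨g * r, h2, ?_⟩
  have hrc : r ∈ centralizer ({x} : Set G) := hR.2.1 hr
  calc g * r * x * (g * r)⁻¹ = g * (r * x * r⁻¹) * g⁻¹ := by group
    _ = g * x * g⁻¹ := by rw [conj_eq_of_mem_centralizer hrc]

theorem orderOf_conj' (g x : G) : orderOf (g * x * g⁻¹) = orderOf x :=
  orderOf_injective (MulAut.conj g).toMonoidHom (MulAut.conj g).injective x

theorem conj_mem_sigmaCore [Finite G] (hG : Cfsg.IsMinSimpleOddOrder G)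
    {M : Subgroup G} (hM : IsCoatom M) {x g : G} (hx : x ∈ Cfsg.sigmaCore M)
    (hg : g * x * g⁻¹ ∈ M) : g * x * g⁻¹ ∈ Cfsg.sigmaCore M := by
  apply Cfsg.Agent.Lib.Helper24.BG14.mem_sigmaCore_of_order hG hM hg
  intro p hp hpd
  rw [orderOf_conj'] at hpd
  exact Cfsg.Agent.Lib.Helper24.BG14.prime_mem_sigma_of_dvd_order hG hM hx hp hpd

theorem mem_of_coprime_relIndex {N M : Subgroup G} (hn : M ≤ normalizer (N : Set G))
    {y : G} (hy : y ∈ M) (hc : (orderOf y).Coprime (N.relIndex M)) : y ∈ N := by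
  have : (N.subgroupOf M).Normal := normal_subgroupOf_of_le_normalizer hn
  have h := Cfsg.Agent.Lib.Helper40.BG12.mem_of_normal_of_coprime (N := N.subgroupOf M)
    (x := ⟨y, hy⟩) (by rw [Subgroup.orderOf_mk]; exact hc)
  exact mem_subgroupOf.1 h

theorem conj_mem_sup [Finite G] (hG : Cfsg.IsMinSimpleOddOrder G) (T : Texts0 G)
    {M K U : Subgroup G} (hM : IsCoatom M) (D : Cfsg.IsSigmaDecomposition M K U) {x g : G}
    (hx : x ∈ U ⊔ Cfsg.sigmaCore M) (hg : g * x * g⁻¹ ∈ M) :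
    g * x * g⁻¹ ∈ U ⊔ Cfsg.sigmaCore M := by
  have hW := Cfsg.Agent.Lib.Helper28.BG12.isPiHallOf_U_sup hG hM D
  apply mem_of_coprime_relIndex ((T.t1352 M hM K D.cyclic D.hall).2 U D) hg
  rw [orderOf_conj']
  have h1 : orderOf x ∣ Nat.card (U ⊔ Cfsg.sigmaCore M : Subgroup G) := by
    rw [← Subgroup.orderOf_mk x hx]
    exact orderOf_dvd_natCard _
  exact Nat.Coprime.coprime_dvd_left h1 (Cfsg.Agent.Lib.Helper66.PiNum.coprime hW.2.1 hW.2.2)

end Cfsg.Agent.Lib.Helper75.BGTop
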