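import Cfsg.Agent.Lib.Helper75.BGTopMore
import Cfsg.Agent.Lib.Helper75.BGTopFK

/-!
B-G top level ("Theorem II"): statements S1390 and S1391 from the texts of the lower statements.
-/

set_option autoImplicit false

namespace Cfsg.Agent.Lib.Helper75.BGTop

open Subgroup Cfsg.Agent.Lib.Helper30

universe u

variable {G : Type u} [Group G]

/-- statement S1390 from the texts. -/
theorem S1390_of [Finite G] (hG : Cfsg.IsMinSimpleOddOrder G) (T : Texts0 G)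
    (M : Subgroup G) (hM : IsCoatom M) (U : Subgroup G)
    (hU : (Cfsg.IsOfTypeI M ∧ Cfsg.IsComplIn (Cfsg.fittingHallOf M) U M) ∨ (Cfsg.IsOfTypeII M ∧ Cfsg.IsComplIn (Cfsg.fittingHallOf M) U ⁅M, M⁆)) :
    (∀ (p : ℕ), p.Prime → ∀ P : Sylow p U, IsMulCommutative (P : Subgroup U) ∧ Cfsg.PRankLE p 2 (P : Subgroup U)) ∧
      (∀ X : Set G, X ⊆ (U : Set G) \ {1} → X.Nonempty → Cfsg.fittingHallOf M ⊓ Subgroup.centralizer X ≠ ⊥ →
        Subgroup.centralizer X ≤ M ∧ ∀ L : Subgroup G, IsCoatom L → Subgroup.centralizer X ≤ L → L = M) ∧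
      Cfsg.IsTISubset (Cfsg.typeA M \ Cfsg.typeA1 M) := by
  obtain ⟨K, U₀, D⟩ := exists_decomp T hM
  have key : Cfsg.fittingHallOf M = Cfsg.sigmaCore M ∧
      Cfsg.IsComplIn (Cfsg.sigmaCore M) U (U₀ ⊔ Cfsg.sigmaCore M) := by
    rcases hU with ⟨h1, h2⟩ | ⟨h1, h2⟩
    · obtain ⟨hK, hU₀⟩ := (T.t1380 M hM K U₀ D).1 h1
      have e := fittingHallOf_eq T hM D hU₀
      refine ⟨e, ?_⟩
      rw [sup_eq_of_eq_bot D hK, ← e]
      exact h2
    · obtain ⟨hK, hU₀⟩ := (T.t1381 M hM K U₀ D).1 h1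
      have e := fittingHallOf_eq T hM D hU₀
      refine ⟨e, ?_⟩
      rw [← (T.t1365 M hM K U₀ D hK).1, ← e]
      exact h2
  obtain ⟨e, hc⟩ := key
  obtain ⟨K', D'⟩ := decomp_of_compl hG hM D hc
  refine ⟨T.t1358 M hM K' U D', ?_, ?_⟩
  · intro X hXU hXne hX
    have h1 : closure X ≤ U := (closure_le U).2 (fun x hx => (hXU hx).1)
    have h2 : closure X ≠ ⊥ := by
      obtain ⟨x, hx⟩ := hXne
      intro h
      have : x ∈ closure X := subset_closure hx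
      rw [h, mem_bot] at this
      exact (hXU hx).2 this
    have h3 : centralizer ((closure X : Subgroup G) : Set G) = centralizer X :=
      centralizer_closure X
    have := T.t1361 M hM K' U D' (closure X) h1 h2 (by rw [h3, ← e]; exact hX)
    rwa [h3] at this
  · have h1 : Cfsg.typeA M \ Cfsg.typeA1 M = Cfsg.sigmaA M U \ (Cfsg.sigmaCore M : Set G) := by
      rw [typeA_eq T hM D', typeA1_eq T hM]
      ext a
      simp only [Set.mem_sdiff, Set.mem_singleton_iff, SetLike.mem_coe, not_and, not_not]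
      constructor
      · rintro ⟨⟨h1, h2⟩, h3⟩
        exact ⟨h1, fun h => h2 (h3 h)⟩
      · rintro ⟨h1, h2⟩
        exact ⟨⟨h1, fun h => h2 (h ▸ one_mem _)⟩, fun h => absurd h h2⟩
    rw [h1]
    exact T.t1362 M hM K' U D'

theorem typeA0_cases [Finite G] (hG : Cfsg.IsMinSimpleOddOrder G) (T : Texts0 G)
    {M K U : Subgroup G} (hM : IsCoatom M) (D : Cfsg.IsSigmaDecomposition M K U) {x : G}
    (hx : x ∈ Cfsg.typeA0 M) :
    (x ∈ Cfsg.sigmaCore M ∧ x ≠ 1) ∨ x ∈ Cfsg.sigmaA M U \ (Cfsg.sigmaCore M : Set G) ∨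
      (K ≠ ⊥ ∧ x ∈ Cfsg.sigmaA0 M K \ Cfsg.sigmaA M U) := by
  rcases hx with hx | ⟨hI, W₁, U', W₂, hP, m, hm, w, hw, hw1, hw2, rfl⟩
  · rw [typeA_eq T hM D] at hx
    by_cases h : x ∈ Cfsg.sigmaCore M
    · exact Or.inl ⟨h, hx.2⟩
    · exact Or.inr (Or.inl ⟨hx.1, h⟩)
  · have hK : K ≠ ⊥ := by
      intro hK
      exact hI ((T.t1380 M hM K U D).2 ⟨hK, ne_bot_of_eq_bot T hM D hK⟩)
    exact Or.inr (Or.inr ⟨hK, typeP_conj_mem hG T hM D hK hP hm hw hw1 hw2⟩)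

theorem typeA0_hat [Finite G] (hG : Cfsg.IsMinSimpleOddOrder G) (T : Texts0 G)
    {M : Subgroup G} (hM : IsCoatom M) {x : G}
    (hx : x ∈ Cfsg.typeA0 M) : x ∈ Cfsg.sigmaHat M ∧ x ≠ 1 := by
  obtain ⟨K, U, D⟩ := exists_decomp T hM
  rcases typeA0_cases hG T hM D hx with ⟨h1, h2⟩ | h | ⟨-, h⟩
  · exact ⟨⟨Cfsg.Agent.Lib.Helper28.BG12.sigmaCore_le M h1, x, h1, h2, rfl⟩, h2⟩
  · exact ⟨h.1.1, fun e => h.2 (e ▸ one_mem _)⟩
  · exact ⟨h.1.1, fun e => h.2 ⟨h.1.1, e ▸ one_mem _⟩⟩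

theorem X2_mem [Finite G] (hG : Cfsg.IsMinSimpleOddOrder G) (T : Texts0 G)
    {M K U : Subgroup G} (hM : IsCoatom M) (D : Cfsg.IsSigmaDecomposition M K U) {x g : G}
    (hx : x ∈ Cfsg.sigmaA M U \ (Cfsg.sigmaCore M : Set G))
    (hg : g * x * g⁻¹ ∈ Cfsg.sigmaA M U \ (Cfsg.sigmaCore M : Set G)) : g ∈ M :=
  mem_of_ti hG hM (T.t1362 M hM K U D) (fun _ ha => ha.1.1.1) (X2_inv T hM D) hx
    (fun e => hx.2 (e ▸ one_mem _)) hg

theorem X3_mem [Finite G] (hG : Cfsg.IsMinSimpleOddOrder G) (T : Texts G)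
    {M K U : Subgroup G} (hM : IsCoatom M) (D : Cfsg.IsSigmaDecomposition M K U) (hK : K ≠ ⊥)
    {x g : G} (hx : x ∈ Cfsg.sigmaA0 M K \ Cfsg.sigmaA M U)
    (hg : g * x * g⁻¹ ∈ Cfsg.sigmaA0 M K \ Cfsg.sigmaA M U) : g ∈ M :=
  mem_of_ti hG hM (T.t1371 M hM K U D hK).2 (fun _ ha => ha.1.1.1) (X3_inv T.toTexts0 hM D) hx
    (fun e => hx.2 ⟨hx.1.1, e ▸ one_mem _⟩) hg

theorem fusion_A0 [Finite G] (hG : Cfsg.IsMinSimpleOddOrder G) (T : Texts G)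
    {M : Subgroup G} (hM : IsCoatom M) {x g : G} (hx : x ∈ Cfsg.typeA0 M)
    (hg : g * x * g⁻¹ ∈ Cfsg.typeA0 M) : ∃ m ∈ M, m * x * m⁻¹ = g * x * g⁻¹ := by
  obtain ⟨K, U, D⟩ := exists_decomp T.toTexts0 hM
  have hyhat := typeA0_hat hG T.toTexts0 hM hg
  have hxhat := typeA0_hat hG T.toTexts0 hM hx
  have hyM : g * x * g⁻¹ ∈ M := hyhat.1.1
  have back : g⁻¹ * (g * x * g⁻¹) * g⁻¹⁻¹ = x := by group
  rcases typeA0_cases hG T.toTexts0 hM D hx with ⟨h1, h2⟩ | h | ⟨hK, h⟩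
  · exact fusion_sigmaCore hG T hM h1 h2 hyM
  · have hy2 : g * x * g⁻¹ ∈ Cfsg.sigmaA M U \ (Cfsg.sigmaCore M : Set G) := by
      refine ⟨⟨hyhat.1, conj_mem_sup hG T.toTexts0 hM D h.1.2 hyM⟩, ?_⟩
      intro hys
      apply h.2
      have := conj_mem_sigmaCore hG hM (g := g⁻¹) hys (by rw [back]; exact hxhat.1.1)
      rwa [back] at this
    exact ⟨g, X2_mem hG T.toTexts0 hM D h hy2, rfl⟩
  · have hno : g * x * g⁻¹ ∉ U ⊔ Cfsg.sigmaCore M := by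
      intro hys
      apply h.2
      have := conj_mem_sup hG T.toTexts0 hM D (g := g⁻¹) hys (by rw [back]; exact hxhat.1.1)
      rw [back] at this
      exact ⟨hxhat.1, this⟩
    have hy3 : g * x * g⁻¹ ∈ Cfsg.sigmaA0 M K \ Cfsg.sigmaA M U := by
      rcases typeA0_cases hG T.toTexts0 hM D hg with ⟨h1, -⟩ | h' | ⟨-, h'⟩
      · exact absurd ((le_sup_right : _ ≤ U ⊔ Cfsg.sigmaCore M) h1) hno
      · exact absurd h'.1.2 hno
      · exact h'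
    exact ⟨g, X3_mem hG T hM D hK h hy3, rfl⟩

theorem mem_sigmaCore_of_not_le [Finite G] (hG : Cfsg.IsMinSimpleOddOrder G) (T : Texts G)
    {M : Subgroup G} (hM : IsCoatom M) {x : G} (hx : x ∈ Cfsg.typeA0 M)
    (hxM : ¬ centralizer ({x} : Set G) ≤ M) : x ∈ Cfsg.sigmaCore M ∧ x ≠ 1 := by
  obtain ⟨K, U, D⟩ := exists_decomp T.toTexts0 hM
  rcases typeA0_cases hG T.toTexts0 hM D hx with h | h | ⟨hK, h⟩
  · exact h
  · exfalso
    apply hxM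
    intro c hc
    exact X2_mem hG T.toTexts0 hM D h (by rw [conj_eq_of_mem_centralizer hc]; exact h)
  · exfalso
    apply hxM
    intro c hc
    exact X3_mem hG T hM D hK h (by rw [conj_eq_of_mem_centralizer hc]; exact h)

/-- statement S1391 from the texts. -/
theorem S1391_of [Finite G] (hG : Cfsg.IsMinSimpleOddOrder G) (T : Texts G)
    (M : Subgroup G) (hM : IsCoatom M) (X : Set G) (hX : X = Cfsg.typeA M ∨ X = Cfsg.typeA0 M) :
    (∀ x ∈ X, ∀ g : G, g * x * g⁻¹ ∈ X → ∃ m ∈ M, m * x * m⁻¹ = g * x * g⁻¹) ∧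
      (∀ x ∈ X, ¬ Subgroup.centralizer ({x} : Set G) ≤ M → x ∈ Cfsg.typeA1 M ∧ ∃! L : Subgroup G, IsCoatom L ∧ Subgroup.centralizer ({x} : Set G) ≤ L) ∧
      ∀ x ∈ X, ¬ Subgroup.centralizer ({x} : Set G) ≤ M → ∀ L : Subgroup G, IsCoatom L → Subgroup.centralizer ({x} : Set G) ≤ L →
        Cfsg.IsComplIn (Cfsg.fittingHallOf L) (M ⊓ L) L ∧
        Subgroup.centralizer ({x} : Set G) ≤ Subgroup.normalizer ((Cfsg.fittingHallOf L ⊓ Subgroup.centralizer ({x} : Set G) : Subgroup G) : Set G) ∧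
        Cfsg.IsComplIn (Cfsg.fittingHallOf L ⊓ Subgroup.centralizer ({x} : Set G)) (M ⊓ Subgroup.centralizer ({x} : Set G)) (Subgroup.centralizer ({x} : Set G)) ∧
        (∀ y ∈ X, (Nat.card (Cfsg.fittingHallOf L)).Coprime (Nat.card ↥(M ⊓ Subgroup.centralizer ({y} : Set G)))) ∧
        (x ∈ Cfsg.typeA L ∧ x ∉ Cfsg.typeA1 L) ∧
        (Cfsg.IsOfTypeI L ∨ Cfsg.IsOfTypeII L) ∧
        (Cfsg.IsOfTypeII L → ∃ E : Subgroup ↥M, Cfsg.IsFrobeniusComplement E ∧ Cfsg.frobeniusKernel E = ((Cfsg.fittingHall ↥M : Subgroup ↥M) : Set ↥M)) := by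
  have hXs : X ⊆ Cfsg.typeA0 M := by
    rcases hX with rfl | rfl
    · exact Set.subset_union_left
    · exact subset_rfl
  refine ⟨fun x hx g hg => fusion_A0 hG T hM (hXs hx) (hXs hg), ?_, ?_⟩
  · intro x hx hxM
    obtain ⟨h1, h2⟩ := mem_sigmaCore_of_not_le hG T hM (hXs hx) hxM
    refine ⟨by rw [typeA1_eq T.toTexts0 hM]; exact ⟨h1, h2⟩, ?_⟩
    obtain ⟨N, hN, huniq, -⟩ := T.t1375 M hM x h1 h2 hxM
    exact ⟨N, hN, fun L hL => huniq L hL.1 hL.2⟩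
  · intro x hx hxM L hL hxL
    obtain ⟨h1, h2⟩ := mem_sigmaCore_of_not_le hG T hM (hXs hx) hxM
    obtain ⟨N, hN, huniq, hNF, hnorm, hcompl, hcomplN, hdec⟩ := T.t1375 M hM x h1 h2 hxM
    obtain rfl := huniq L hL hxL
    obtain ⟨K', U', D'⟩ := exists_decomp T.toTexts0 hL
    obtain ⟨hU', hxA, hxσ⟩ := hdec K' U' D'
    rw [← hNF]
    refine ⟨isComplIn_swap hcomplN, hnorm, isComplIn_swap hcompl, ?_, ⟨?_, ?_⟩, ?_, ?_⟩
    · intro y hy
      have := typeA0_hat hG T.toTexts0 hM (hXs hy)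
      exact coprime_lemma hG T hM h1 h2 hxM hL hxL hxσ this.1 this.2
    · rw [typeA_eq T.toTexts0 hL D']
      exact ⟨hxA, h2⟩
    · rw [typeA1_eq T.toTexts0 hL]
      exact fun h => hxσ h.1
    · by_cases hK' : K' = ⊥
      · exact Or.inl ((T.t1380 L hL K' U' D').2 ⟨hK', hU'⟩)
      · exact Or.inr ((T.t1381 L hL K' U' D').2 ⟨hK', hU'⟩)
    · intro hII
      have hK' := ((T.t1381 L hL K' U' D').1 hII).1
      have hk : (Cfsg.kappa L).Nonempty := by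
        have h3 : Nat.card K' ≠ 1 := fun h => hK' (card_eq_one.1 h)
        obtain ⟨p, hp, hpd⟩ := Nat.exists_prime_and_dvd h3
        exact ⟨p, D'.hall.2.1 p hp hpd⟩
      obtain ⟨-, ⟨E, hE, -⟩, -⟩ := T.t1376 M hM x h1 h2 hxM L hL hxL hk
      exact ⟨E, hE, frobeniusKernel_eq_fittingHall E hE⟩

end Cfsg.Agent.Lib.Helper75.BGTop
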