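import Cfsg.Agent.Lib.Helper54.JC45.Defs

set_option autoImplicit false

/-! S2945 ladder (JC45), rung F4: `W_K ≤ Ω₁(Z(O₂(Y)))` for `K` subnormal in `Y`. -/

namespace Cfsg.Agent.Lib.Helper75.JC45

open Cfsg Subgroup
open Cfsg.Agent.Lib.Helper75.JC Cfsg.Agent.Lib.Helper53.JC Cfsg.Agent.Lib.Helper53
open Cfsg.Agent.Lib.Helper55 (SN)
open Cfsg.Agent.Lib.Helper15.ZJ (AE PE)
open Cfsg.Agent.Lib.Helper54.JC45

variable {G : Type*} [Group G]

theorem pResOf_eq_of_ctx {K J S : Subgroup G} (c : Ctx K J S) : Helper52.pResOf 2 K = K := by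
  rw [← Helper37.oddGenerated_eq_pResOf]
  exact c.odd

theorem R_le_Q {K Y : Subgroup G} (s : SN K Y) : pCoreOf 2 K ≤ pCoreOf 2 Y :=
  Helper37.pCoreOf_le_of_rel_subnormal s.le s.isSubnormal

theorem Q_le_normK {K Y : Subgroup G} (h : JT K) (s : SN K Y) :
    pCoreOf 2 Y ≤ normalizer (K : Set G) := by
  obtain ⟨⟨J, S, c⟩, -⟩ := h
  exact Helper37.pCoreOf_le_normalizer_of_rel_subnormal s.le s.isSubnormal (pResOf_eq_of_ctx c)

theorem Q_le_normW {K Y : Subgroup G} (h : JT K) (s : SN K Y) :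
    pCoreOf 2 Y ≤ normalizer (wOf K : Set G) :=
  (Q_le_normK h s).trans (normalizer_le_normalizer_wOf K)

theorem W_le_Q {K Y : Subgroup G} (s : SN K Y) : wOf K ≤ pCoreOf 2 Y :=
  (Ctx.W_le_R K).trans (R_le_Q s)

theorem Q_le_centW [Finite G] {K Y : Subgroup G} (h : JT K) (s : SN K Y) :
    pCoreOf 2 Y ≤ centralizer (wOf K : Set G) := by
  have hQW := Q_le_normW h s
  obtain ⟨⟨J, S, c⟩, -⟩ := h
  have hWQ := W_le_Q s
  have hn : ((wOf K).subgroupOf (pCoreOf 2 Y)).Normal :=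
    (normal_subgroupOf_iff_le_normalizer hWQ).2 hQW
  have hne : (wOf K).subgroupOf (pCoreOf 2 Y) ≠ ⊥ := by
    intro h
    rw [subgroupOf_eq_bot, disjoint_iff, inf_of_le_left hWQ] at h
    have := c.four.card
    rw [h] at this
    simp at this
  obtain ⟨z, hz, hzc, hz1⟩ :=
    Helper67.exists_mem_center_of_normal (pCoreOf_isPGroup 2 Y) _ hne
  have hzW : (z : G) ∈ wOf K := hz
  have hz1' : (z : G) ≠ 1 := fun h => hz1 (Subtype.ext h)
  have hfix : ∀ q ∈ pCoreOf 2 Y, q * (z : G) * q⁻¹ = z := by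
    intro q hq
    have h2 : q * (z : G) = z * q := congrArg Subtype.val (mem_center_iff.mp hzc ⟨q, hq⟩)
    rw [h2]; group
  obtain ⟨k, hk, hodd, hkW⟩ := c.exists_k0
  have hkN : k ∈ normalizer (wOf K : Set G) := c.X_le_normW (mem_sup_left hk)
  have hkQ : k⁻¹ ∈ normalizer (pCoreOf 2 Y : Set G) :=
    inv_mem (le_normalizer_pCoreOf 2 Y (s.le hk))
  have hb : k * (z : G) * k⁻¹ ∈ wOf K := Four.conj_mem hkN hzW
  have hb1 : k * (z : G) * k⁻¹ ≠ 1 := by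
    intro h
    apply hz1'
    have : (z : G) = k⁻¹ * (k * (z : G) * k⁻¹) * k := by group
    rw [this, h]; group
  have hab : (z : G) ≠ k * (z : G) * k⁻¹ := fun h =>
    hz1' (c.eq_one_of_fix hk hodd hkW hzW h.symm)
  intro q hq
  apply c.four.fix_all hzW hb hz1' hb1 hab (hfix q hq)
  have hq' : k⁻¹ * q * k⁻¹⁻¹ ∈ pCoreOf 2 Y := (mem_normalizer_iff.mp hkQ q).mp hq
  have := hfix _ hq'
  calc q * (k * (z : G) * k⁻¹) * q⁻¹
      = k * ((k⁻¹ * q * k⁻¹⁻¹) * (z : G) * (k⁻¹ * q * k⁻¹⁻¹)⁻¹) * k⁻¹ := by group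
    _ = k * (z : G) * k⁻¹ := by rw [this]

/-- [F4] -/
theorem wOf_le_omega [Finite G] {K Y : Subgroup G} (h : JT K) (s : SN K Y) :
    wOf K ≤ omegaCenterOf (pCoreOf 2 Y) := by
  intro w hw
  have hc := Q_le_centW h s
  obtain ⟨⟨J, S, c⟩, -⟩ := h
  refine mem_omegaCenterOf (W_le_Q s hw) ?_ (by rw [pow_two]; exact c.four.sq w hw)
  exact (le_centralizer_iff.mp hc) hw

end Cfsg.Agent.Lib.Helper75.JC45
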