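import Cfsg.Agent.Lib.Helper75.JC45F4

set_option autoImplicit false

/-! S2945 ladder (JC45), rung F5: `[Ω₁(Z(O₂(Y))), K] ≤ W_K` for `K` subnormal in `Y`. -/

namespace Cfsg.Agent.Lib.Helper75.JC45

open Cfsg Subgroup
open scoped commutatorElement
open Cfsg.Agent.Lib.Helper75.JC Cfsg.Agent.Lib.Helper53.JC Cfsg.Agent.Lib.Helper53
open Cfsg.Agent.Lib.Helper55 (SN)
open Cfsg.Agent.Lib.Helper15.ZJ (AE PE)
open Cfsg.Agent.Lib.Helper54.JC45

variable {G : Type*} [Group G]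

theorem K_le_normU {K Y : Subgroup G} (s : SN K Y) :
    K ≤ normalizer (omegaCenterOf (pCoreOf 2 Y) : Set G) :=
  (s.le.trans (le_normalizer_pCoreOf 2 Y)).trans (normalizer_le_normalizer_omegaCenterOf _)

theorem K_le_normW (K : Subgroup G) : K ≤ normalizer (wOf K : Set G) :=
  le_normalizer.trans (normalizer_le_normalizer_wOf K)

theorem K_inf_U_le {K Y : Subgroup G} (s : SN K Y) :
    K ⊓ omegaCenterOf (pCoreOf 2 Y) ≤ omegaCenterOf (pCoreOf 2 K) := by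
  intro x hx
  have hxU := mem_omegaCenterOf_iff.mp hx.2
  refine mem_omegaCenterOf (Helper37.inf_pCoreOf_le s.le ⟨hx.1, hxU.1⟩) ?_ hxU.2.2
  exact centralizer_le (SetLike.coe_subset_coe.2 (R_le_Q s)) hxU.2.1

theorem comm_mem_of_U0 {K : Subgroup G} {k x : G} (hk : k ∈ K)
    (hx : x ∈ omegaCenterOf (pCoreOf 2 K)) : k * x * k⁻¹ * x⁻¹ ∈ wOf K := by
  have h1 : ⁅x, k⁆ ∈ wOf K := Subgroup.commutator_mem_commutator hx hk
  have h2 : k * x * k⁻¹ * x⁻¹ = ⁅x, k⁆⁻¹ := by rw [commutatorElement_def]; group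
  rw [h2]; exact inv_mem h1

theorem comm_mem_odd [Finite G] {K Y : Subgroup G} (h : JT K) (s : SN K Y) {k u : G}
    (hk : k ∈ K) (hodd : Odd (orderOf k)) (hu : u ∈ omegaCenterOf (pCoreOf 2 Y)) :
    k * u * k⁻¹ * u⁻¹ ∈ wOf K := by
  have hWU := wOf_le_omega h s
  have hPE := omegaCenterOf_PE (pCoreOf 2 Y)
  have hkU := K_le_normU s hk
  have hkW := K_le_normW K hk
  set v := k * u * k⁻¹ * u⁻¹ with hv
  have hvU : v ∈ omegaCenterOf (pCoreOf 2 Y) :=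
    mul_mem ((mem_normalizer_iff.mp hkU u).mp hu) (inv_mem hu)
  have huN : u ∈ normalizer (K : Set G) := Q_le_normK h s (omegaCenterOf_le _ hu)
  have hvK : v ∈ K := by
    have h1 : u * k⁻¹ * u⁻¹ ∈ K := (mem_normalizer_iff.mp huN _).mp (inv_mem hk)
    have h2 : v = k * (u * k⁻¹ * u⁻¹) := by rw [hv]; group
    rw [h2]; exact mul_mem hk h1
  have hw' : k * v * k⁻¹ * v⁻¹ ∈ wOf K := comm_mem_of_U0 hk (K_inf_U_le s ⟨hvK, hvU⟩)
  set w' := k * v * k⁻¹ * v⁻¹ with hw'def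
  have hkv : k * v * k⁻¹ = w' * v := by rw [hw'def]; group
  have hku : k * u * k⁻¹ = v * u := by rw [hv]; group
  have hcomm : Commute w' v := hPE.1 _ (hWU hw') _ hvU
  have key : ∀ n : ℕ, ∃ w ∈ wOf K, k ^ n * u * (k ^ n)⁻¹ = w * v ^ n * u := by
    intro n
    induction n with
    | zero => exact ⟨1, one_mem _, by simp⟩
    | succ n ih =>
      obtain ⟨w, hw, e⟩ := ih
      refine ⟨k * w * k⁻¹ * w' ^ n, mul_mem (Four.conj_mem hkW hw) (pow_mem hw' n), ?_⟩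
      calc k ^ (n + 1) * u * (k ^ (n + 1))⁻¹ = k * (k ^ n * u * (k ^ n)⁻¹) * k⁻¹ := by
            rw [pow_succ']; group
        _ = k * (w * v ^ n * u) * k⁻¹ := by rw [e]
        _ = (k * w * k⁻¹) * (k * v * k⁻¹) ^ n * (k * u * k⁻¹) := by
            rw [conj_pow]; group
        _ = (k * w * k⁻¹) * (w' ^ n * v ^ n) * (v * u) := by rw [hkv, hku, hcomm.mul_pow]
        _ = k * w * k⁻¹ * w' ^ n * v ^ (n + 1) * u := by rw [pow_succ]; group
  obtain ⟨w, hw, e⟩ := key (orderOf k)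
  rw [pow_orderOf_eq_one] at e
  have h2 : w * v ^ orderOf k = 1 := by simpa using e.symm
  obtain ⟨j, hj⟩ := hodd
  rw [hj, pow_succ, pow_mul, hPE.2 v hvU, one_pow, one_mul] at h2
  have h3 : v = w⁻¹ := (inv_eq_of_mul_eq_one_right h2).symm
  rw [h3]; exact inv_mem hw

/-- [F5] -/
theorem comm_mem_wOf [Finite G] {K Y : Subgroup G} (h : JT K) (s : SN K Y) :
    ∀ k ∈ K, ∀ u ∈ omegaCenterOf (pCoreOf 2 Y), k * u * k⁻¹ * u⁻¹ ∈ wOf K := by
  have hodd : closure {g : G | g ∈ K ∧ Odd (orderOf g)} = K := by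
    obtain ⟨⟨J, S, c⟩, -⟩ := h
    exact c.odd
  have main : ∀ k ∈ closure {g : G | g ∈ K ∧ Odd (orderOf g)},
      k ∈ K ∧ ∀ u ∈ omegaCenterOf (pCoreOf 2 Y), k * u * k⁻¹ * u⁻¹ ∈ wOf K := by
    intro k hk
    induction hk using Subgroup.closure_induction with
    | mem x hx => exact ⟨hx.1, fun u hu => comm_mem_odd h s hx.1 hx.2 hu⟩
    | one => exact ⟨one_mem _, fun u _ => by simp⟩
    | mul a b _ _ iha ihb =>
      refine ⟨mul_mem iha.1 ihb.1, fun u hu => ?_⟩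
      have e : a * b * u * (a * b)⁻¹ * u⁻¹ =
          (a * (b * u * b⁻¹ * u⁻¹) * a⁻¹) * (a * u * a⁻¹ * u⁻¹) := by group
      rw [e]
      exact mul_mem (Four.conj_mem (K_le_normW K iha.1) (ihb.2 u hu)) (iha.2 u hu)
    | inv a _ iha =>
      refine ⟨inv_mem iha.1, fun u hu => ?_⟩
      have hu' : a⁻¹ * u * a⁻¹⁻¹ ∈ omegaCenterOf (pCoreOf 2 Y) :=
        (mem_normalizer_iff.mp (K_le_normU s (inv_mem iha.1)) u).mp hu
      have h1 := iha.2 _ hu'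
      have e : a⁻¹ * u * a⁻¹⁻¹ * u⁻¹ =
          (a * (a⁻¹ * u * a⁻¹⁻¹) * a⁻¹ * (a⁻¹ * u * a⁻¹⁻¹)⁻¹)⁻¹ := by group
      rw [e]; exact inv_mem h1
  intro k hk
  rw [← hodd] at hk
  exact (main k hk).2

end Cfsg.Agent.Lib.Helper75.JC45
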