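import Cfsg.Agent.Lib.Helper53.JCBasic
import Cfsg.Agent.Lib.Helper67.PGroupAux
import Cfsg.Agent.Lib.Helper75.JCFour

set_option autoImplicit false

/-! The local structure of `X = K J(T)` for a `J(T)`-component `K` (K-S ch.12 ladder). -/

namespace Cfsg.Agent.Lib.Helper75.JC

open Cfsg Subgroup
open scoped commutatorElement
open Cfsg.Agent.Lib.Helper15.ZJ (AE PE)
open Cfsg.Agent.Lib.Helper53 Cfsg.Agent.Lib.Helper53.JC

variable {G : Type*} [Group G]

theorem le_normalizer_of_conj_mem {X N : Subgroup G} (h : ∀ x ∈ X, ∀ n ∈ N, x * n * x⁻¹ ∈ N) :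
    X ≤ normalizer (N : Set G) := by
  intro x hx
  rw [mem_normalizer_iff]
  intro n
  refine ⟨h x hx n, fun hn => ?_⟩
  have := h x⁻¹ (X.inv_mem hx) _ hn
  simpa [mul_assoc] using this

/-- context: `K` is a `J`-component, `S` a Sylow 2-subgroup of `K J` with `J(S) = J`. -/
structure Ctx (K J S : Subgroup G) : Prop where
  odd : closure {g : G | g ∈ K ∧ Odd (orderOf g)} = K
  comm : ⁅K, J⁆ = K
  idx : (pCoreOf 2 K).relIndex K = 3
  four : Four (wOf K)
  syl : IsSyl 2 S (K ⊔ J)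
  hJ : JJ S = J

theorem exists_ctx [Finite G] {T K : Subgroup G} (hT : IsPGroup 2 T) (hK : IsJComponent T K) :
    ∃ S, Ctx K (JJ T) S := by
  obtain ⟨h1, h2, h3, h4, h5, h6⟩ := hK
  have hJp : IsPGroup 2 (JJ T) := hT.to_le (JJ_le T)
  obtain ⟨S, hS, hJS⟩ := exists_isSyl_ge (le_sup_right : JJ T ≤ K ⊔ JJ T) hJp
  exact ⟨S, h1, h2, h3, ⟨h5, h6⟩, hS, h4 S (isSylowTwoIn_iff.2 hS) hJS⟩

/-- `C_X(W)` -/
def QX (K J : Subgroup G) : Subgroup G := (K ⊔ J) ⊓ centralizer (wOf K : Set G)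

namespace Ctx

variable {K J S : Subgroup G}

theorem J_le_S (c : Ctx K J S) : J ≤ S := c.hJ ▸ JJ_le S

theorem J_le_norm (c : Ctx K J S) : J ≤ normalizer (K : Set G) := by
  apply le_normalizer_of_conj_mem
  intro y hy k hk
  have h1 : ⁅k⁻¹, y⁆ ∈ K := by
    have := Subgroup.commutator_mem_commutator (K.inv_mem hk) hy
    rwa [c.comm] at this
  have h2 : y * k * y⁻¹ = k * ⁅k⁻¹, y⁆ := by rw [commutatorElement_def]; group
  rw [h2]; exact K.mul_mem hk h1

theorem X_le_norm (c : Ctx K J S) : K ⊔ J ≤ normalizer (K : Set G) :=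
  sup_le le_normalizer c.J_le_norm

theorem X_le_normW (c : Ctx K J S) : K ⊔ J ≤ normalizer (wOf K : Set G) :=
  c.X_le_norm.trans (normalizer_le_normalizer_wOf K)

theorem W_le_U (K : Subgroup G) : wOf K ≤ omegaCenterOf (pCoreOf 2 K) := by
  unfold wOf
  rw [Subgroup.commutator_le]
  intro u hu k hk
  have hk' : k ∈ normalizer (omegaCenterOf (pCoreOf 2 K) : Set G) :=
    normalizer_le_normalizer_omegaCenterOf _ (le_normalizer_pCoreOf 2 K hk)
  rw [commutatorElement_def, mul_assoc, mul_assoc, ← mul_assoc k]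
  exact mul_mem hu ((mem_normalizer_iff.mp hk' _).mp (inv_mem hu))

theorem W_le_R (K : Subgroup G) : wOf K ≤ pCoreOf 2 K := (W_le_U K).trans (omegaCenterOf_le _)

theorem R_le_cent (K : Subgroup G) : pCoreOf 2 K ≤ centralizer (wOf K : Set G) :=
  le_centralizer_iff.mp ((W_le_U K).trans (omegaCenterOf_le_centralizer _))

theorem exists_k0 (c : Ctx K J S) :
    ∃ k ∈ K, Odd (orderOf k) ∧ k ∉ centralizer (wOf K : Set G) := by
  by_contra hcon
  push Not at hcon
  have h1 : K ≤ centralizer (omegaCenterOf (pCoreOf 2 K) : Set G) := by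
    conv_lhs => rw [← c.odd]
    rw [closure_le]
    rintro k ⟨hk, hodd⟩
    rw [SetLike.mem_coe, mem_centralizer_iff]
    intro u hu
    have hw : ⁅k, u⁆ ∈ wOf K := by
      rw [← commutatorElement_inv]
      exact inv_mem (Subgroup.commutator_mem_commutator hu hk)
    have h2 : k * u * k⁻¹ = ⁅k, u⁆ * u := by rw [commutatorElement_def]; group
    have h3 : Commute k ⁅k, u⁆ := ((mem_centralizer_iff.mp (hcon k hk hodd)) _ hw).symm
    have h4 := odd_fix h2 h3 (c.four.sq _ hw) hodd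
    exact (commutatorElement_eq_one_iff_mul_comm.mp h4).symm
  have h5 : wOf K = ⊥ := by
    unfold wOf
    rw [Subgroup.commutator_eq_bot_iff_le_centralizer]
    exact le_centralizer_iff.mp h1
  have := c.four.card
  rw [h5] at this
  simp at this

/-- an odd order element of `K` acting nontrivially on `W` has no nontrivial fixed point -/
theorem eq_one_of_fix (c : Ctx K J S) {k w : G} (hk : k ∈ K) (hodd : Odd (orderOf k))
    (hkW : k ∉ centralizer (wOf K : Set G)) (hw : w ∈ wOf K) (h : k * w * k⁻¹ = w) : w = 1 := by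
  by_contra hw1
  exact hkW (c.four.odd_centralizes (c.X_le_normW (mem_sup_left hk)) hodd hw hw1 h)

theorem K_inf_le (c : Ctx K J S) : K ⊓ centralizer (wOf K : Set G) ≤ pCoreOf 2 K := by
  rcases eq_or_eq_of_relIndex_three c.idx (le_inf (pCoreOf_le 2 K) (R_le_cent K)) inf_le_left
    with h | h
  · exact h
  · exfalso
    obtain ⟨k, hk, -, hk2⟩ := c.exists_k0
    exact hk2 (h hk).2

theorem J_isPGroup (c : Ctx K J S) : IsPGroup 2 J := c.syl.isPGroup.to_le c.J_le_S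

theorem Q_isPGroup (c : Ctx K J S) : IsPGroup 2 (QX K J) := by
  rintro ⟨x, hx⟩
  obtain ⟨n, hn⟩ := exists_pow_mem_of_mem_sup c.J_le_norm c.J_isPGroup (x := x)
    (by rw [sup_comm]; exact hx.1)
  have h1 : x ^ 2 ^ n ∈ pCoreOf 2 K := c.K_inf_le ⟨hn, pow_mem hx.2 _⟩
  obtain ⟨m, hm⟩ := pCoreOf_isPGroup 2 K ⟨_, h1⟩
  refine ⟨n + m, Subtype.ext ?_⟩
  have := congrArg Subtype.val hm
  simpa [pow_add, pow_mul] using this

theorem conj_mem_Q (c : Ctx K J S) {x q : G} (hx : x ∈ K ⊔ J) (hq : q ∈ QX K J) :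
    x * q * x⁻¹ ∈ QX K J := by
  refine mem_inf.mpr ⟨mul_mem (mul_mem hx hq.1) (inv_mem hx), ?_⟩
  rw [mem_centralizer_iff]
  intro w hw
  have hw' : x⁻¹ * w * x⁻¹⁻¹ ∈ wOf K := Four.conj_mem (c.X_le_normW (inv_mem hx)) hw
  have h1 := (mem_centralizer_iff.mp hq.2) _ hw'
  calc w * (x * q * x⁻¹) = x * ((x⁻¹ * w * x⁻¹⁻¹) * q) * x⁻¹ := by group
    _ = x * (q * (x⁻¹ * w * x⁻¹⁻¹)) * x⁻¹ := by rw [h1]
    _ = x * q * x⁻¹ * w := by group

theorem X_le_normQ (c : Ctx K J S) : K ⊔ J ≤ normalizer (QX K J : Set G) :=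
  le_normalizer_of_conj_mem fun _ hx _ hq => c.conj_mem_Q hx hq

theorem Q_le_S (c : Ctx K J S) : QX K J ≤ S :=
  (le_pCoreOf inf_le_left c.X_le_normQ c.Q_isPGroup).trans (pCoreOf_le_isSyl c.syl)

theorem W_le_Q (c : Ctx K J S) : wOf K ≤ QX K J := by
  refine le_inf (((W_le_R K).trans (pCoreOf_le 2 K)).trans le_sup_left) ?_
  intro w hw
  rw [mem_centralizer_iff]
  intro v hv
  exact c.four.comm hv hw

theorem R_le_Q (K J : Subgroup G) : pCoreOf 2 K ≤ QX K J :=
  le_inf ((pCoreOf_le 2 K).trans le_sup_left) (R_le_cent K)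

theorem W_le_S (c : Ctx K J S) : wOf K ≤ S := c.W_le_Q.trans c.Q_le_S

theorem exists_wJ [Finite G] (c : Ctx K J S) :
    ∃ w ∈ wOf K, w ≠ 1 ∧ ∀ s ∈ S, s * w * s⁻¹ = w := by
  have hn : ((wOf K).subgroupOf S).Normal :=
    (normal_subgroupOf_iff_le_normalizer c.W_le_S).2 (c.syl.le.trans c.X_le_normW)
  have hne : (wOf K).subgroupOf S ≠ ⊥ := by
    intro h
    rw [subgroupOf_eq_bot, disjoint_iff, inf_of_le_left c.W_le_S] at h
    have := c.four.card
    rw [h] at this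
    simp at this
  obtain ⟨z, hz, hzc, hz1⟩ := Helper67.exists_mem_center_of_normal c.syl.isPGroup _ hne
  refine ⟨z, hz, fun h => hz1 (Subtype.ext h), fun s hs => ?_⟩
  have h2 : s * (z : G) = z * s := congrArg Subtype.val (mem_center_iff.mp hzc ⟨s, hs⟩)
  rw [h2]; group

end Ctx

end Cfsg.Agent.Lib.Helper75.JC
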