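import Mathlib
import Cfsg.Prelude.Def_HallClasses

set_option autoImplicit false

namespace Cfsg.Agent.Lib.Helper75

open Subgroup

section
variable {G : Type*} [Group G]

/-- the conjugate `g H g⁻¹` in the form used by `Cfsg.IsPronormal` -/
abbrev cj (g : G) (H : Subgroup G) : Subgroup G := H.map (MulAut.conj g).toMonoidHom

theorem mem_cj {g x : G} {H : Subgroup G} : x ∈ cj g H ↔ g⁻¹ * x * g ∈ H := by
  rw [cj, Subgroup.mem_map_equiv, MulAut.conj_symm_apply]

theorem conj_mem_cj {g x : G} {H : Subgroup G} (hx : x ∈ H) : g * x * g⁻¹ ∈ cj g H := by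
  rw [mem_cj]
  have : g⁻¹ * (g * x * g⁻¹) * g = x := by group
  rwa [this]

theorem cj_mul (g h : G) (H : Subgroup G) : cj (g * h) H = cj g (cj h H) := by
  ext x
  simp only [mem_cj]
  have : (g * h)⁻¹ * x * (g * h) = h⁻¹ * (g⁻¹ * x * g) * h := by group
  rw [this]

theorem cj_one (H : Subgroup G) : cj 1 H = H := by
  ext x
  simp

theorem cj_inv_cj (g : G) (H : Subgroup G) : cj g⁻¹ (cj g H) = H := by
  rw [← cj_mul, inv_mul_cancel, cj_one]

theorem cj_cj_inv (g : G) (H : Subgroup G) : cj g (cj g⁻¹ H) = H := by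
  rw [← cj_mul, mul_inv_cancel, cj_one]

theorem cj_mono {H K : Subgroup G} (g : G) (h : H ≤ K) : cj g H ≤ cj g K := Subgroup.map_mono h

theorem cj_le_iff {H K : Subgroup G} (g : G) : cj g H ≤ cj g K ↔ H ≤ K := by
  constructor
  · intro h
    have := cj_mono g⁻¹ h
    rwa [cj_inv_cj, cj_inv_cj] at this
  · exact cj_mono g

theorem cj_injective (g : G) {H K : Subgroup G} (h : cj g H = cj g K) : H = K := by
  have := congrArg (cj g⁻¹) h
  rwa [cj_inv_cj, cj_inv_cj] at this

theorem cj_eq_self_iff {g : G} {H : Subgroup G} : cj g H = H ↔ g ∈ normalizer (H : Set G) := by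
  rw [mem_normalizer_iff]
  constructor
  · intro h x
    constructor
    · intro hx
      rw [← h]
      exact conj_mem_cj hx
    · intro hx
      rw [← h, mem_cj] at hx
      have : g⁻¹ * (g * x * g⁻¹) * g = x := by group
      rwa [this] at hx
  · intro h
    ext x
    rw [mem_cj, h]
    have : g * (g⁻¹ * x * g) * g⁻¹ = x := by group
    rw [this]

theorem cj_of_mem {g : G} {H : Subgroup G} (hg : g ∈ H) : cj g H = H :=
  cj_eq_self_iff.2 (le_normalizer hg)

theorem cj_le_of_mem {g : G} {H M : Subgroup G} (hg : g ∈ M) (h : H ≤ M) : cj g H ≤ M := by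
  have := cj_mono g h
  rwa [cj_of_mem hg] at this

theorem cj_normal (g : G) (N : Subgroup G) [hN : N.Normal] : cj g N = N := by
  rw [cj_eq_self_iff, normalizer_eq_top_iff.2 hN]
  trivial

theorem cj_sup (g : G) (H K : Subgroup G) : cj g (H ⊔ K) = cj g H ⊔ cj g K := Subgroup.map_sup _ _ _

theorem cj_inf (g : G) (H K : Subgroup G) : cj g (H ⊓ K) = cj g H ⊓ cj g K :=
  Subgroup.map_inf _ _ _ (MulAut.conj g).injective

theorem cj_eq_cj_iff {g x : G} {H : Subgroup G} :
    cj g H = cj x H ↔ x⁻¹ * g ∈ normalizer (H : Set G) := by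
  rw [← cj_eq_self_iff, cj_mul]
  constructor
  · intro h
    rw [h, cj_inv_cj]
  · intro h
    have := congrArg (cj x) h
    rwa [cj_cj_inv] at this

theorem card_cj (g : G) (H : Subgroup G) : Nat.card (cj g H) = Nat.card H :=
  Subgroup.card_map_of_injective (MulAut.conj g).injective

theorem normalizer_cj (g : G) (H : Subgroup G) :
    normalizer ((cj g H : Subgroup G) : Set G) = cj g (normalizer (H : Set G)) := by
  ext x
  rw [← cj_eq_self_iff, mem_cj, ← cj_eq_self_iff, cj_mul, cj_mul]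
  constructor
  · intro h
    rw [h, cj_inv_cj]
  · intro h
    have := congrArg (cj g) h
    rwa [cj_cj_inv] at this

/-- `H` and `g H g⁻¹` are conjugate in their join. -/
def PrnAt (H : Subgroup G) (g : G) : Prop := ∃ x ∈ H ⊔ cj g H, cj g H = cj x H

theorem isPronormal_iff {H : Subgroup G} : Cfsg.IsPronormal H ↔ ∀ g, PrnAt H g := Iff.rfl

theorem prnAt_mul_right {H : Subgroup G} {g n : G} (hn : n ∈ normalizer (H : Set G))
    (h : PrnAt H g) : PrnAt H (g * n) := by
  unfold PrnAt at h ⊢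
  rwa [cj_mul, cj_eq_self_iff.2 hn]

theorem prnAt_of_mem_normalizer {H : Subgroup G} {n : G} (hn : n ∈ normalizer (H : Set G)) :
    PrnAt H n :=
  ⟨1, one_mem _, by rw [cj_eq_self_iff.2 hn, cj_one]⟩

/-- the basic reduction: `g` may be changed on the left by an element of `⟨H, H^g⟩`. -/
theorem prnAt_of_mul_left {H : Subgroup G} {g y : G} (hy : y ∈ H ⊔ cj g H)
    (h : PrnAt H (y⁻¹ * g)) : PrnAt H g := by
  obtain ⟨x, hx, hxe⟩ := h
  have h1 : cj (y⁻¹ * g) H ≤ H ⊔ cj g H := by
    rw [cj_mul]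
    exact cj_le_of_mem (inv_mem hy) le_sup_right
  have h2 : H ⊔ cj (y⁻¹ * g) H ≤ H ⊔ cj g H := sup_le le_sup_left h1
  refine ⟨y * x, mul_mem hy (h2 hx), ?_⟩
  rw [cj_mul, ← hxe, ← cj_mul, mul_inv_cancel_left]

end

end Cfsg.Agent.Lib.Helper75
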