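import Mathlib
import Cfsg.Agent.Lib.Helper75.Pronormal

set_option autoImplicit false

namespace Cfsg.Agent.Lib.Helper75

open Subgroup
open scoped Pointwise

section Hom
variable {G G' : Type*} [Group G] [Group G']

theorem map_cj (f : G →* G') (g : G) (H : Subgroup G) : (cj g H).map f = cj (f g) (H.map f) := by
  ext y
  constructor
  · rintro ⟨x, hx, rfl⟩
    rw [mem_cj]
    refine ⟨g⁻¹ * x * g, mem_cj.1 hx, ?_⟩
    simp
  · intro hy
    rw [mem_cj] at hy
    obtain ⟨x, hx, hxe⟩ := hy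
    refine ⟨g * x * g⁻¹, conj_mem_cj hx, ?_⟩
    rw [map_mul, map_mul, hxe, map_inv]
    group

theorem prnAt_map (f : G →* G') {H : Subgroup G} {g : G} (h : PrnAt H g) :
    PrnAt (H.map f) (f g) := by
  obtain ⟨x, hx, hxe⟩ := h
  refine ⟨f x, ?_, ?_⟩
  · rw [← map_cj, ← Subgroup.map_sup]
    exact mem_map_of_mem f hx
  · rw [← map_cj, ← map_cj, hxe]

theorem prnAt_of_map (f : G →* G') {H : Subgroup G} (hker : f.ker ≤ H) {g : G}
    (h : PrnAt (H.map f) (f g)) : PrnAt H g := by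
  obtain ⟨y, hy, hye⟩ := h
  rw [← map_cj, ← Subgroup.map_sup] at hy
  obtain ⟨x, hx, rfl⟩ := hy
  refine ⟨x, hx, ?_⟩
  rw [← map_cj, ← map_cj] at hye
  have hk : ∀ z : G, f.ker ≤ cj z H := by
    intro z
    have := cj_mono z hker
    rwa [cj_normal] at this
  exact map_injective_of_ker_le f (hk g) (hk x) hye

theorem isPronormal_map_iff (f : G →* G') (hf : Function.Surjective f) {H : Subgroup G}
    (hker : f.ker ≤ H) : Cfsg.IsPronormal (H.map f) ↔ Cfsg.IsPronormal H := by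
  constructor
  · intro h g
    exact prnAt_of_map f hker (h (f g))
  · intro h y
    obtain ⟨g, rfl⟩ := hf y
    exact prnAt_map f (h g)

theorem isPronormal_subgroup_iff {M : Subgroup G} (K : Subgroup M) :
    Cfsg.IsPronormal K ↔ ∀ g ∈ M, PrnAt (K.map M.subtype) g := by
  constructor
  · intro h g hg
    have h1 : PrnAt K ⟨g, hg⟩ := isPronormal_iff.1 h _
    have h2 := prnAt_map M.subtype h1
    rwa [Subgroup.subtype_apply] at h2
  · intro h
    rw [isPronormal_iff]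
    intro g
    apply prnAt_of_map M.subtype (by rw [ker_subtype]; exact bot_le)
    exact h g g.2

theorem prnAt_cj {H : Subgroup G} {b g : G} (h : PrnAt H g) : PrnAt (cj b H) (b * g * b⁻¹) :=
  prnAt_map (MulAut.conj b).toMonoidHom h

theorem isPronormal_of_cj {H : Subgroup G} (b : G) (h : Cfsg.IsPronormal (cj b H)) :
    Cfsg.IsPronormal H := by
  intro g
  have := prnAt_cj (b := b⁻¹) (h (b * g * b⁻¹))
  rw [cj_inv_cj] at this
  have e : b⁻¹ * (b * g * b⁻¹) * b⁻¹⁻¹ = g := by group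
  rwa [e] at this

end Hom

section Syl
variable {G : Type*} [Group G] [Finite G] {p : ℕ} [Fact p.Prime]

theorem exists_sylow_le_iff {K : Subgroup G} : (∃ P : Sylow p G, (P : Subgroup G) ≤ K) ↔ ¬ p ∣ K.index := by
  constructor
  · rintro ⟨P, hP⟩ h
    exact P.not_dvd_index (h.trans (index_dvd_of_le hP))
  · intro h
    obtain ⟨Q⟩ : Nonempty (Sylow p K) := inferInstance
    have hQ : IsPGroup p ((Q : Subgroup K).map K.subtype) := Q.2.map _
    have hi : ¬ p ∣ ((Q : Subgroup K).map K.subtype).index := by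
      rw [index_map_subtype]
      exact Nat.Prime.not_dvd_mul Fact.out Q.not_dvd_index h
    refine ⟨hQ.toSylow hi, ?_⟩
    rw [IsPGroup.toSylow_coe]
    exact map_subtype_le _

/-- a Sylow `p`-subgroup of `H` containing a given `p`-subgroup, all inside `G` -/
theorem exists_sylow_in_ge {T H : Subgroup G} (hT : IsPGroup p T) (hTH : T ≤ H) :
    ∃ S : Subgroup G, T ≤ S ∧ S ≤ H ∧ IsPGroup p S ∧ ¬ p ∣ S.relIndex H := by
  have hT' : IsPGroup p (T.subgroupOf H) := hT.comap_subtype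
  obtain ⟨P, hP⟩ := hT'.exists_le_sylow
  refine ⟨(P : Subgroup H).map H.subtype, ?_, map_subtype_le _, P.2.map _, ?_⟩
  · intro t ht
    exact ⟨⟨t, hTH ht⟩, hP (mem_subgroupOf.2 ht), rfl⟩
  · rw [relIndex, subgroupOf, comap_map_eq_self_of_injective H.subtype_injective]
    exact P.not_dvd_index

theorem exists_cj_eq_of_sylow_in {D T₁ T₂ : Subgroup G} (h1 : T₁ ≤ D) (h2 : T₂ ≤ D)
    (hp1 : IsPGroup p T₁) (hp2 : IsPGroup p T₂) (hi1 : ¬ p ∣ T₁.relIndex D)
    (hi2 : ¬ p ∣ T₂.relIndex D) : ∃ y ∈ D, T₂ = cj y T₁ := by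
  let P₁ : Sylow p D := (hp1.comap_subtype (H := T₁) (K := D)).toSylow hi1
  let P₂ : Sylow p D := (hp2.comap_subtype (H := T₂) (K := D)).toSylow hi2
  obtain ⟨d, hd⟩ := MulAction.exists_smul_eq D P₁ P₂
  refine ⟨d, d.2, ?_⟩
  have e1 : (P₁ : Subgroup D) = T₁.subgroupOf D := IsPGroup.toSylow_coe _ _
  have e2 : (P₂ : Subgroup D) = T₂.subgroupOf D := IsPGroup.toSylow_coe _ _
  have h3 : ((d • P₁ : Sylow p D) : Subgroup D) = cj d (T₁.subgroupOf D) := by
    rw [Sylow.coe_subgroup_smul, e1]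
    rfl
  rw [hd, e2] at h3
  have h4 := congrArg (Subgroup.map D.subtype) h3
  rw [map_cj, map_subgroupOf_eq_of_le h2, map_subgroupOf_eq_of_le h1] at h4
  exact h4

theorem le_of_sylow_in {T S A : Subgroup G} (hTS : T ≤ S) (hSA : S ≤ A) (hS : IsPGroup p S)
    (hi : ¬ p ∣ T.relIndex A) : S ≤ T := by
  have h1 := relIndex_mul_relIndex T S A hTS hSA
  have h2 : ¬ p ∣ T.relIndex S := fun h => hi (h1 ▸ Dvd.dvd.mul_right h _)
  obtain ⟨k, hk⟩ := IsPGroup.iff_card.1 hS
  have h3 : T.relIndex S ∣ p ^ k := hk ▸ relIndex_dvd_card T S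
  obtain ⟨j, -, hj⟩ := (Nat.dvd_prime_pow Fact.out).1 h3
  rcases j with _ | j
  · rw [pow_zero] at hj
    exact relIndex_eq_one.1 hj
  · exact absurd (hj ▸ dvd_pow_self p (Nat.succ_ne_zero j)) h2

end Syl

end Cfsg.Agent.Lib.Helper75
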