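import Mathlib
import Cfsg.Agent.Lib.Helper99.SPU.Defs
import Cfsg.Agent.Lib.Helper99.PGB.Defs
import Cfsg.Agent.Lib.Helper48.JordanForm

set_option autoImplicit false

universe u

namespace Cfsg.Agent.Lib.Helper75.SPU

open Module LinearMap QuadraticMap Cfsg.Agent.Lib.Helper48 Cfsg.Agent.Lib.Helper17
  Cfsg.Agent.Lib.Helper99.SP8 Cfsg.Agent.Lib.Helper99.PGB Cfsg.Agent.Lib.Helper99.SPU

/-- ALTE : the rank of an alternating form is even -/
theorem alt_even {F P : Type*} [Field F] [AddCommGroup P] [Module F P] [FiniteDimensional F P]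
    (Ω : LinearMap.BilinForm F P) (halt : ∀ p, Ω p p = 0) :
    ∃ k, finrank F P = finrank F (LinearMap.ker Ω) + 2 * k := by
  have h1 := even_finrank_add_finrank_ker_of_isAlt Ω halt
  have h2 : finrank F (LinearMap.ker Ω) ≤ finrank F P := Submodule.finrank_le _
  obtain ⟨m, hm⟩ := h1
  exact ⟨m - finrank F (LinearMap.ker Ω), by omega⟩

end Cfsg.Agent.Lib.Helper75.SPU
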