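import Mathlib
import Cfsg.Agent.Lib.Helper99.SPU.Defs
import Cfsg.Agent.Lib.Helper99.PGB.Defs

set_option autoImplicit false

universe u

namespace Cfsg.Agent.Lib.Helper75.SPU

open Module LinearMap QuadraticMap Cfsg.Agent.Lib.Helper48 Cfsg.Agent.Lib.Helper17
  Cfsg.Agent.Lib.Helper99.SP8 Cfsg.Agent.Lib.Helper99.PGB Cfsg.Agent.Lib.Helper99.SPU

theorem perp_skew {F V : Type*} [Field F] [AddCommGroup V] [Module F V]
    (B : LinearMap.BilinForm F V) (halt : ∀ v, B v v = 0) (x y : V) : B x y = - B y x := by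
  have h := halt (x + y)
  simp only [map_add, LinearMap.add_apply, halt, zero_add, add_zero] at h
  exact eq_neg_of_add_eq_zero_right h

theorem perp_nondeg {F V : Type*} [Field F] [AddCommGroup V] [Module F V]
    (B : LinearMap.BilinForm F V) (halt : ∀ v, B v v = 0) (hnd : ∀ x, (∀ y, B x y = 0) → x = 0) :
    B.Nondegenerate := by
  refine ⟨fun x hx => hnd x hx, fun y hy => hnd y fun x => ?_⟩
  rw [perp_skew B halt, hy x, neg_zero]

/-- PERP1 -/
theorem mem_iff_perp {F V : Type*} [Field F] [AddCommGroup V] [Module F V] [FiniteDimensional F V]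
    (B : LinearMap.BilinForm F V) (halt : ∀ v, B v v = 0) (hnd : ∀ x, (∀ y, B x y = 0) → x = 0)
    (A : Submodule F V) (x : V) : x ∈ A ↔ ∀ y, (∀ a ∈ A, B a y = 0) → B x y = 0 := by
  have h1 := LinearMap.BilinForm.orthogonal_orthogonal (perp_nondeg B halt hnd)
    (LinearMap.BilinForm.IsAlt.isRefl halt) A
  constructor
  · intro hx y hy
    exact hy x hx
  · intro h
    rw [← h1, LinearMap.BilinForm.mem_orthogonal_iff]
    intro n hn
    rw [LinearMap.BilinForm.mem_orthogonal_iff] at hn
    rw [perp_skew B halt, h n hn, neg_zero]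

/-- PERP2 -/
theorem finrank_perp {F V : Type*} [Field F] [AddCommGroup V] [Module F V] [FiniteDimensional F V]
    (B : LinearMap.BilinForm F V) (halt : ∀ v, B v v = 0) (hnd : ∀ x, (∀ y, B x y = 0) → x = 0)
    (A A' : Submodule F V) (h : ∀ y, y ∈ A' ↔ ∀ a ∈ A, B a y = 0) :
    finrank F A + finrank F A' = finrank F V := by
  have h1 := LinearMap.BilinForm.finrank_orthogonal (perp_nondeg B halt hnd) A
  have h2 : A' = B.orthogonal A := by
    ext y
    rw [h, LinearMap.BilinForm.mem_orthogonal_iff]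
  have h3 : finrank F A ≤ finrank F V := Submodule.finrank_le _
  rw [h2, h1]
  omega

/-- PERP3 : the range of `T - 1` is the orthogonal complement of the fixed space -/
theorem range_iff_perp {F V : Type*} [Field F] [AddCommGroup V] [Module F V]
    [FiniteDimensional F V] (B : LinearMap.BilinForm F V) (halt : ∀ v, B v v = 0)
    (hnd : ∀ x, (∀ y, B x y = 0) → x = 0) (T : End F V) (hT : IsoB B T) (y : V) :
    y ∈ range (T - 1) ↔ ∀ x, (T - 1) x = 0 → B x y = 0 := by
  have hle : range (T - 1) ≤ B.orthogonal (ker (T - 1)) := by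
    rintro _ ⟨z, rfl⟩
    rw [LinearMap.BilinForm.mem_orthogonal_iff]
    intro x hx
    rw [LinearMap.mem_ker, LinearMap.sub_apply, Module.End.one_apply, sub_eq_zero] at hx
    rw [LinearMap.sub_apply, Module.End.one_apply, map_sub]
    nth_rewrite 1 [← hx]
    rw [hT x z, sub_self]
  have h1 := LinearMap.BilinForm.finrank_orthogonal (perp_nondeg B halt hnd) (ker (T - 1))
  have h2 := LinearMap.finrank_range_add_finrank_ker (T - 1)
  have heq : range (T - 1) = B.orthogonal (ker (T - 1)) := by
    apply Submodule.eq_of_le_of_finrank_eq hle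
    omega
  rw [heq, LinearMap.BilinForm.mem_orthogonal_iff]
  rfl

end Cfsg.Agent.Lib.Helper75.SPU
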