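import Mathlib
import Cfsg.Agent.Lib.Helper99.SPU.Defs
import Cfsg.Agent.Lib.Helper99.PGB.Defs
import Cfsg.Agent.Lib.Helper75.SPUALTE
import Cfsg.Agent.Lib.Helper75.SPUPERP

set_option autoImplicit false

universe u

namespace Cfsg.Agent.Lib.Helper75.SPU

open Module LinearMap QuadraticMap Cfsg.Agent.Lib.Helper48 Cfsg.Agent.Lib.Helper17
  Cfsg.Agent.Lib.Helper99.SP8 Cfsg.Agent.Lib.Helper99.PGB Cfsg.Agent.Lib.Helper99.SPU

theorem wall_finrank_prod {F V W : Type*} [Field F] [AddCommGroup V] [Module F V]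
    [AddCommGroup W] [Module F W] [FiniteDimensional F V] [FiniteDimensional F W]
    (A : Submodule F V) (C : Submodule F W) :
    finrank F (A.prod C) = finrank F A + finrank F C := by
  have h : LinearMap.range (A.subtype.prodMap C.subtype) = A.prod C := by
    rw [LinearMap.range_prodMap, Submodule.range_subtype, Submodule.range_subtype]
  rw [← h, LinearMap.finrank_range_of_inj, Module.finrank_prod]
  exact Function.Injective.prodMap A.injective_subtype C.injective_subtype

theorem wall_finrank_map {F V W : Type*} [Field F] [AddCommGroup V] [Module F V]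
    [AddCommGroup W] [Module F W] (f : V →ₗ[F] W) (hf : Function.Injective f)
    (A : Submodule F V) : finrank F (A.map f) = finrank F A :=
  (Submodule.equivMapOfInjective f hf A).finrank_eq.symm

/-- WALL -/
theorem wall_count {F V : Type*} [Field F] [AddCommGroup V] [Module F V] [FiniteDimensional F V]
    (B : LinearMap.BilinForm F V) (halt : ∀ v, B v v = 0) (hnd : ∀ x, (∀ y, B x y = 0) → x = 0)
    (Q : V → F) (a b : End F V) (ha1 : ∀ x, B x (a x) = Q (a x)) (hb1 : ∀ x, B x (b x) = Q (b x))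
    (ha2 : ∀ y, y ∈ range a ↔ ∀ x, a x = 0 → B x y = 0)
    (hb2 : ∀ y, y ∈ range b ↔ ∀ x, b x = 0 → B x y = 0) :
    Even (finrank F (ker (a - b)) + finrank F (ker a) + finrank F (ker b)) := by
  classical
  let f : V × V →ₗ[F] V := LinearMap.coprod a (-b)
  have hf_apply : ∀ p : V × V, f p = a p.1 - b p.2 := by
    intro p
    simp [f, sub_eq_add_neg]
  let P : Submodule F (V × V) := ker f
  have hPmem : ∀ p : V × V, p ∈ P ↔ a p.1 = b p.2 := by
    intro p
    rw [LinearMap.mem_ker, hf_apply, sub_eq_zero]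
  let Ω : LinearMap.BilinForm F P :=
    B.compl₁₂ ((LinearMap.fst F V V - LinearMap.snd F V V) ∘ₗ P.subtype)
      ((a : V →ₗ[F] V) ∘ₗ LinearMap.fst F V V ∘ₗ P.subtype)
  have hΩ_apply : ∀ p p' : P, Ω p p' = B (p.1.1 - p.1.2) (a p'.1.1) := fun p p' => rfl
  have hΩalt : ∀ p, Ω p p = 0 := by
    intro p
    have hp := (hPmem p.1).1 p.2
    rw [hΩ_apply, map_sub, LinearMap.sub_apply, ha1, hp, hb1, sub_self]
  have hker : ∀ p : P, p ∈ ker Ω ↔ p.1.1 - p.1.2 ∈ ker a ⊔ ker b := by
    intro p
    rw [mem_iff_perp B halt hnd (ker a ⊔ ker b)]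
    constructor
    · intro h y hy
      have hya : y ∈ range a :=
        (ha2 y).2 fun x hx => hy x (Submodule.mem_sup_left (LinearMap.mem_ker.2 hx))
      have hyb : y ∈ range b :=
        (hb2 y).2 fun x hx => hy x (Submodule.mem_sup_right (LinearMap.mem_ker.2 hx))
      obtain ⟨x', rfl⟩ := hya
      obtain ⟨z', hz'⟩ := hyb
      have h2 := congrArg (fun g => g ⟨(x', z'), (hPmem _).2 hz'.symm⟩) (LinearMap.mem_ker.1 h)
      exact h2
    · intro h
      rw [LinearMap.mem_ker]
      apply LinearMap.ext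
      intro p'
      rw [hΩ_apply]
      apply h
      intro c hc
      obtain ⟨k1, hk1, k2, hk2, rfl⟩ := Submodule.mem_sup.1 hc
      rw [map_add, LinearMap.add_apply, (ha2 (a p'.1.1)).1 ⟨_, rfl⟩ k1 hk1,
        (hPmem p'.1).1 p'.2, (hb2 _).1 ⟨_, rfl⟩ k2 hk2, add_zero]
  let diag : V →ₗ[F] V × V := LinearMap.prod LinearMap.id LinearMap.id
  have hdiag : ∀ w, diag w = (w, w) := fun w => rfl
  have hdinj : Function.Injective diag := by
    intro x y h
    exact congrArg Prod.fst h
  let D : Submodule F (V × V) := (ker (a - b)).map diag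
  let E : Submodule F (V × V) := (ker a).prod (ker b)
  let K' : Submodule F (V × V) := (ker Ω).map P.subtype
  have hK'mem : ∀ q : V × V, q ∈ K' ↔ a q.1 = b q.2 ∧ q.1 - q.2 ∈ ker a ⊔ ker b := by
    intro q
    constructor
    · rintro ⟨p, hp, rfl⟩
      exact ⟨(hPmem p.1).1 p.2, (hker p).1 hp⟩
    · rintro ⟨h1, h2⟩
      exact ⟨⟨q, (hPmem q).2 h1⟩, (hker _).2 h2, rfl⟩
  have hK'eq : K' = D ⊔ E := by
    apply le_antisymm
    · intro q hq
      obtain ⟨h1, h2⟩ := (hK'mem q).1 hq
      obtain ⟨k1, hk1, k2, hk2, hk⟩ := Submodule.mem_sup.1 h2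
      rw [LinearMap.mem_ker] at hk1 hk2
      have hw : q.1 - k1 = q.2 + k2 := by
        rw [sub_eq_iff_eq_add, add_assoc, add_comm k2 k1, hk]
        abel
      have hq' : q = diag (q.1 - k1) + (k1, -k2) := by
        apply Prod.ext
        · simp [hdiag]
        · simp [hdiag, hw]
      rw [hq']
      apply Submodule.add_mem_sup
      · refine ⟨_, ?_, rfl⟩
        rw [SetLike.mem_coe, LinearMap.mem_ker, LinearMap.sub_apply]
        nth_rewrite 2 [hw]
        rw [map_sub, map_add, hk1, hk2, h1]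
        abel
      · refine ⟨?_, ?_⟩
        · exact LinearMap.mem_ker.2 hk1
        · show -k2 ∈ ker b
          rw [LinearMap.mem_ker, map_neg, hk2, neg_zero]
    · apply sup_le
      · rintro _ ⟨w, hw, rfl⟩
        rw [SetLike.mem_coe, LinearMap.mem_ker, LinearMap.sub_apply, sub_eq_zero] at hw
        rw [hK'mem, hdiag]
        refine ⟨hw, ?_⟩
        simp
      · rintro ⟨k, k'⟩ ⟨hk, hk'⟩
        have hk1 : a k = 0 := hk
        have hk2 : b k' = 0 := hk'
        rw [hK'mem]
        refine ⟨by rw [hk1, hk2], ?_⟩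
        exact Submodule.sub_mem _ (Submodule.mem_sup_left hk) (Submodule.mem_sup_right hk')
  have hDE : D ⊓ E = (ker a ⊓ ker b).map diag := by
    apply le_antisymm
    · rintro q ⟨⟨w, hw, rfl⟩, h1, h2⟩
      exact ⟨w, ⟨h1, h2⟩, rfl⟩
    · rintro _ ⟨w, ⟨h1, h2⟩, rfl⟩
      refine ⟨⟨w, ?_, rfl⟩, h1, h2⟩
      have h1' : a w = 0 := h1
      have h2' : b w = 0 := h2
      rw [SetLike.mem_coe, LinearMap.mem_ker, LinearMap.sub_apply, h1', h2', sub_zero]
  have c1 : finrank F K' = finrank F (ker Ω) := Submodule.finrank_map_subtype_eq P (ker Ω)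
  have c2 := Submodule.finrank_sup_add_finrank_inf_eq D E
  rw [← hK'eq, hDE, wall_finrank_map diag hdinj, wall_finrank_map diag hdinj,
    wall_finrank_prod] at c2
  have c3 := LinearMap.finrank_range_add_finrank_ker f
  rw [Module.finrank_prod] at c3
  have c4 : finrank F (range f) + finrank F (ker a ⊓ ker b : Submodule F V) = finrank F V := by
    apply finrank_perp B halt hnd
    intro y
    constructor
    · rintro ⟨h1, h2⟩ _ ⟨p, rfl⟩
      have h1' : a y = 0 := h1
      have h2' : b y = 0 := h2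
      rw [hf_apply, map_sub, LinearMap.sub_apply, perp_skew B halt (a p.1) y,
        perp_skew B halt (b p.2) y, (ha2 (a p.1)).1 ⟨_, rfl⟩ y h1',
        (hb2 (b p.2)).1 ⟨_, rfl⟩ y h2']
      simp
    · intro h
      constructor
      · rw [SetLike.mem_coe, mem_iff_perp B halt hnd (ker a)]
        intro u hu
        obtain ⟨x, rfl⟩ := (ha2 u).2 fun c hc => hu c (LinearMap.mem_ker.2 hc)
        have h3 := h (a x) ⟨(x, 0), by rw [hf_apply]; simp⟩
        rw [perp_skew B halt, h3, neg_zero]
      · rw [SetLike.mem_coe, mem_iff_perp B halt hnd (ker b)]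
        intro u hu
        obtain ⟨x, rfl⟩ := (hb2 u).2 fun c hc => hu c (LinearMap.mem_ker.2 hc)
        have h3 := h (b x) ⟨(0, -x), by rw [hf_apply]; simp⟩
        rw [perp_skew B halt, h3, neg_zero]
  obtain ⟨k, c5⟩ := alt_even Ω hΩalt
  obtain ⟨k', c6⟩ := alt_even B halt
  have hkB : ker B = ⊥ := by
    rw [LinearMap.ker_eq_bot']
    intro x hx
    apply hnd
    intro y
    rw [hx]
    rfl
  rw [hkB, finrank_bot, zero_add] at c6
  have c3' : finrank F (range f) + finrank F P = finrank F V + finrank F V := c3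
  rw [Nat.even_iff]
  omega

end Cfsg.Agent.Lib.Helper75.SPU
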