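import Mathlib
import Cfsg.Agent.Lib.Helper99.SPU.Defs
import Cfsg.Agent.Lib.Helper99.PGB.Defs
import Cfsg.Agent.Lib.Helper75.SPUWALL

set_option autoImplicit false

universe u

namespace Cfsg.Agent.Lib.Helper75.SPU

open Module LinearMap QuadraticMap Cfsg.Agent.Lib.Helper48 Cfsg.Agent.Lib.Helper17
  Cfsg.Agent.Lib.Helper99.SP8 Cfsg.Agent.Lib.Helper99.PGB Cfsg.Agent.Lib.Helper99.SPU

theorem dick_isoB {F V : Type*} [Field F] [AddCommGroup V] [Module F V]
    (Q : QuadraticForm F V) (T : End F V) (hT : ∀ v, Q (T v) = Q v) :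
    IsoB (polarBilin Q) T := by
  intro x w
  show polar Q (T x) (T w) = polar Q x w
  unfold QuadraticMap.polar
  rw [← map_add, hT, hT, hT]

theorem dick_wall {F V : Type*} [Field F] [CharP F 2] [AddCommGroup V] [Module F V]
    (Q : QuadraticForm F V) (T : End F V) (hT : ∀ v, Q (T v) = Q v) (x : V) :
    polarBilin Q x ((T - 1) x) = Q ((T - 1) x) := by
  show polar Q x ((T - 1) x) = Q ((T - 1) x)
  have h2 : ∀ c : F, c + c = 0 := fun c => CharTwo.add_self_eq_zero c
  rw [LinearMap.sub_apply, Module.End.one_apply, sub_eq_add_neg, QuadraticMap.map_add (⇑Q),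
    QuadraticMap.map_neg, hT, QuadraticMap.polar_add_right, QuadraticMap.polar_neg_right,
    QuadraticMap.polar_neg_right, QuadraticMap.polar_self, two_smul, h2, neg_zero, add_zero,
    zero_add, CharTwo.neg_eq, QuadraticMap.polar_comm]

/-- DICK : the Dickson invariant is a homomorphism -/
theorem dickson {F V : Type*} [Field F] [CharP F 2] [AddCommGroup V] [Module F V]
    [FiniteDimensional F V] (Q : QuadraticForm F V) (hnd : ∀ x, (∀ y, polar Q x y = 0) → x = 0)
    (g h : (End F V)ˣ) (hg : ∀ v, Q ((g : End F V) v) = Q v) (hh : ∀ v, Q ((h : End F V) v) = Q v) :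
    Even (finrank F (ker (((g * h : (End F V)ˣ) : End F V) - 1)) +
      finrank F (ker ((g : End F V) - 1)) + finrank F (ker ((h : End F V) - 1))) := by
  have halt : ∀ v, polarBilin Q v v = 0 := by
    intro v
    show polar Q v v = 0
    rw [QuadraticMap.polar_self, two_smul, CharTwo.add_self_eq_zero]
  have hnd' : ∀ x, (∀ y, polarBilin Q x y = 0) → x = 0 := hnd
  have hgi1' : ∀ v, (g : End F V) (((g⁻¹ : (End F V)ˣ) : End F V) v) = v := by
    intro v
    have := congrArg (fun f : End F V => f v) (Units.mul_inv g)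
    exact this
  have hgi2 : ∀ v, ((g⁻¹ : (End F V)ˣ) : End F V) ((g : End F V) v) = v := by
    intro v
    have := congrArg (fun f : End F V => f v) (Units.inv_mul g)
    exact this
  have hgi : ∀ v, Q (((g⁻¹ : (End F V)ˣ) : End F V) v) = Q v := by
    intro v
    rw [← hg, hgi1']
  have key := wall_count (polarBilin Q) halt hnd' Q ((h : End F V) - 1)
    (((g⁻¹ : (End F V)ˣ) : End F V) - 1) (dick_wall Q _ hh) (dick_wall Q _ hgi)
    (range_iff_perp _ halt hnd' _ (dick_isoB Q _ hh))
    (range_iff_perp _ halt hnd' _ (dick_isoB Q _ hgi))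
  have e1 : ker (((h : End F V) - 1) - (((g⁻¹ : (End F V)ˣ) : End F V) - 1)) =
      ker (((g * h : (End F V)ˣ) : End F V) - 1) := by
    ext x
    simp only [LinearMap.mem_ker, LinearMap.sub_apply, Module.End.one_apply, Units.val_mul,
      Module.End.mul_apply, sub_sub_sub_cancel_right, sub_eq_zero]
    constructor
    · intro hx
      rw [hx, hgi1']
    · intro hx
      nth_rewrite 2 [← hx]
      rw [hgi2]
  have e2 : ker ((((g⁻¹ : (End F V)ˣ) : End F V)) - 1) = ker ((g : End F V) - 1) := by
    ext x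
    simp only [LinearMap.mem_ker, LinearMap.sub_apply, Module.End.one_apply, sub_eq_zero]
    constructor
    · intro hx
      nth_rewrite 1 [← hx]
      rw [hgi1']
    · intro hx
      nth_rewrite 1 [← hx]
      rw [hgi2]
  rw [e1, e2] at key
  rw [add_right_comm]
  exact key

end Cfsg.Agent.Lib.Helper75.SPU
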